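/-
Helper library (helper91): Bender–Glauberman Proposition 12.16(e) in the form it takes once
Theorem 13.9 (S1378) is known.  S1378 enters as the explicit hypothesis `H1378`.
-/
import Cfsg.Agent.S1403
import Cfsg.Agent.S1414
import Cfsg.Agent.S1416
import Cfsg.Agent.S1417
import Cfsg.Agent.S1418
import Cfsg.Agent.Lib.Helper9.BG12a
import Cfsg.Agent.Lib.Helper34.BG13a

set_option autoImplicit false
set_option linter.unusedSimpArgs false
set_option linter.unusedVariables false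
set_option linter.style.haveILetI false
set_option linter.unusedSectionVars false

namespace Cfsg.Agent.Lib.Helper91.BG13

open Subgroup Cfsg
open Cfsg.Agent.Lib
open Cfsg.Agent.Lib.Helper24 Cfsg.Agent.Lib.Helper34 Cfsg.Agent.Lib.Helper31.BG11
open Cfsg.Agent.Lib.Helper34.BG13 Cfsg.Agent.Lib.Helper9.BG12
open scoped commutatorElement

universe u

variable {G : Type u} [Group G]

/-- The second part of S1378 (BG Theorem 13.9). -/
def H1378 (G : Type u) [Group G] : Prop :=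
  ∀ M N : Subgroup G, IsCoatom M → IsCoatom N → (Cfsg.sigma M ∩ Cfsg.sigma N).Nonempty →
    ∃ g : G, N = M.map (MulAut.conj g).toMonoidHom

theorem ut [Finite G] (hG : IsMinSimpleOddOrder G) : UT G :=
  fun K hK hK2 hK3 => Cfsg.Agent.S1403.result hG K hK hK2 hK3

theorem h1414 [Finite G] (hG : IsMinSimpleOddOrder G) : Helper34.BG13.H1414 G :=
  fun L hL q hq hd hβ =>
    ⟨((Cfsg.Agent.S1414.result hG L hL).2.2.2.2 q hq hd hβ).1,
      ((Cfsg.Agent.S1414.result hG L hL).2.2.2.2 q hq hd hβ).2.1⟩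

theorem h1416a [Finite G] (hG : IsMinSimpleOddOrder G) : H1416a G :=
  fun M hM p _ A hA => (Cfsg.Agent.S1416.result hG M hM p A hA).1

/-- A prime outside `σ(L)` and `τ₂(L)` has rank at most one in `L`. -/
theorem pRankLE_one_of_not [Finite G] (hG : IsMinSimpleOddOrder G) {L : Subgroup G}
    (hL : IsCoatom L) {q : ℕ} (hq : q.Prime) (hσ : q ∉ sigma L) (hτ : q ∉ tau2 L) :
    PRankLE q 1 L := by
  by_contra h1
  apply hτ
  refine ⟨hq, hσ, ?_, h1⟩
  by_contra h2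
  exact hσ (alpha_subset_sigma hG (ut hG) hL ⟨hq, h2⟩)

/-- **BG 12.16(e)** (given 13.9): `q ∈ σ(M)`, `X ≠ 1` a `q`-subgroup of `M`, `L ≠ M` maximal over
`N_G(X)`.  Then `q ∈ τ₂(L)` and `M ∩ L` is a complement of `L_σ` in `L`. -/
theorem tau2_compl [Finite G] (hG : IsMinSimpleOddOrder G) (h139 : H1378 G) {M L : Subgroup G}
    (hM : IsCoatom M) (hL : IsCoatom L) (hne : L ≠ M) {q : ℕ} [hqF : Fact q.Prime]
    (hq : q ∈ sigma M) {X : Subgroup G} (hXq : IsPGroup q X) (hX1 : X ≠ ⊥) (hXM : X ≤ M)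
    (hNX : normalizer (X : Set G) ≤ L) :
    q ∈ tau2 L ∧ IsComplIn (M ⊓ L) (sigmaCore L) L := by
  have hU := ut hG
  have hXL : X ≤ L := le_normalizer.trans hNX
  obtain ⟨S, hS, hXS⟩ := exists_isSylowIn_ge (le_inf hXM hXL) hXq
  obtain ⟨hnc, hNS, hSL⟩ := sigma_subgroup_embedding hG hU (h1416a hG) hM hq hXq hX1 hXM hL hne
    hNX hS hXS
  have hqL : q ∉ sigma L := by
    intro h
    obtain ⟨g, hg⟩ := h139 M L hM hL ⟨q, hq, h⟩
    exact hnc g hg
  have hqd : q ∣ Nat.card L := by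
    have h1 : q ∣ Nat.card X := by
      rcases hXq.card_eq_or_dvd with h | h
      · exact absurd ((Subgroup.card_eq_one).1 h) hX1
      · exact h
    exact h1.trans (card_dvd_of_le hXL)
  have hSnc : ¬ IsCyclic S := by
    intro hc
    apply hqL
    exact mem_sigma_iff.2 ⟨hqd, S, hSL, (normalizer_le_normalizer_of_isCyclic hc hXS).trans hNX⟩
  obtain ⟨A, hAS, hAe, hAc⟩ := exists_elemAb_sq_of_not_isCyclic (sigma_ne_two hG hq) hS.2.1 hSnc
  have hAL : A ≤ L := hAS.trans hSL.1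
  have hAM : A ≤ M := hAS.trans (hS.1.trans inf_le_left)
  have hlt : q < Nat.card A := by
    rw [hAc]
    calc q = q ^ 1 := (pow_one q).symm
      _ < q ^ 2 := Nat.pow_lt_pow_right hqF.out.one_lt (by norm_num)
  have ht : q ∈ tau2 L := by
    refine ⟨hqF.out, hqL, ?_, not_pRankLE_of_le hAL hAe.1 hAe.2 (by rwa [pow_one])⟩
    by_contra hr
    exact hqL (alpha_subset_sigma hG hU hL ⟨hqF.out, hr⟩)
  refine ⟨ht, ?_⟩
  have hApg : IsPGroup q A := isPGroup_of_exponent hAe.2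
  have hNA : normalizer (A : Set G) ≤ M := norm_noncyclic_sigma hG hU (h1416a hG) hM hq hApg hAM
    (Cfsg.Agent.Lib.Helper23U.not_isCyclic_of_elemAb hAe.2 hlt)
  have h17 := Cfsg.Agent.S1417.result hG L hL q ht A ⟨hAL, hAe, hAc⟩
  have hbot : sigmaCore L ⊓ M = ⊥ := h17.2.2.2.2.1 M hM (Ne.symm hne) hAM
  obtain ⟨E, hE, hAE⟩ := exists_compl_ge hG hU hL hAL (by
    intro r hr hd
    obtain ⟨k, hk⟩ := IsPGroup.iff_card.1 hApg
    rw [hk] at hd
    rw [(Nat.prime_dvd_prime_iff_eq hr hqF.out).mp (hr.dvd_of_dvd_pow hd)]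
    exact hqL)
  have h18 := Cfsg.Agent.S1418.result hG L hL E hE q ht A ⟨hAE, hAe, hAc⟩
  have hEM : E ≤ M := by
    rw [← h18.2.1.2.1]
    exact inf_le_right.trans hNA
  refine ⟨inf_le_right, sc_le L, ?_, ?_⟩
  · rw [eq_bot_iff, ← hbot]
    exact fun x hx => ⟨hx.2, hx.1.1⟩
  · intro m hm
    obtain ⟨a, ha, b, hb, hab⟩ := hE.2.2.2 m hm
    exact ⟨a, ⟨hEM ha, hE.1 ha⟩, b, hb, hab⟩

end Cfsg.Agent.Lib.Helper91.BG13
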