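/-
Helper library (helper91): Bender–Glauberman Theorem 13.4 (S1428), modulo Theorem 13.9 (S1378),
which enters as the explicit hypothesis `H1378`.  Paper proof: helper24 / helper91.
-/
import Cfsg.Agent.S1405
import Cfsg.Agent.S1406
import Cfsg.Agent.S1409
import Cfsg.Agent.S1411
import Cfsg.Agent.S1415
import Cfsg.Agent.S1420
import Cfsg.Agent.S1422
import Cfsg.Agent.Lib.Helper91.BG1216e
import Cfsg.Agent.Lib.Helper24.BG13F
import Cfsg.Agent.Lib.Helper48.FF1
import Cfsg.Agent.Lib.Helper1.CoprimeSylow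
import Cfsg.Agent.Lib.Helper10.BG124
import Cfsg.Agent.Lib.Helper9.BG12b

set_option autoImplicit false
set_option linter.unusedSimpArgs false
set_option linter.unusedVariables false
set_option linter.style.haveILetI false
set_option linter.unusedSectionVars false

namespace Cfsg.Agent.Lib.Helper91.BG13

open Subgroup Cfsg
open Cfsg.Agent.Lib
open Cfsg.Agent.Lib.Helper24 Cfsg.Agent.Lib.Helper34 Cfsg.Agent.Lib.Helper31.BG11
open Cfsg.Agent.Lib.Helper34.BG13 Cfsg.Agent.Lib.Helper9.BG12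
open scoped commutatorElement

universe u

variable {G : Type u} [Group G]

/-! ### General lemmas -/

/-- Two subgroups of coprime orders normalizing each other commute. -/
theorem le_centralizer_of_normalize_coprime [Finite G] {A Q : Subgroup G}
    (hAQ : A ≤ normalizer (Q : Set G)) (hQA : Q ≤ normalizer (A : Set G))
    (hcop : (Nat.card A).Coprime (Nat.card Q)) : A ≤ centralizer (Q : Set G) := by
  rw [← Subgroup.commutator_eq_bot_iff_le_centralizer, eq_bot_iff,
    ← (Subgroup.disjoint_of_coprime_natCard hcop).eq_bot]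
  exact le_inf (Subgroup.le_normalizer_iff_commutator_le_left.1 hQA)
    (Subgroup.le_normalizer_iff_commutator_le_right.1 hAQ)

/-- `L' ≤ N D'` if `L = D N` with `N ⊴ L`. -/
theorem commutator_le_sup_of_compl {D N L : Subgroup G} (h : IsComplIn D N L)
    (hn : L ≤ normalizer (N : Set G)) : ⁅L, L⁆ ≤ N ⊔ ⁅D, D⁆ := by
  rw [Subgroup.commutator_le]
  intro a ha b hb
  obtain ⟨d₁, hd₁, s₁, hs₁, rfl⟩ := h.2.2.2 a ha
  obtain ⟨d₂, hd₂, s₂, hs₂, rfl⟩ := h.2.2.2 b hb
  have key : ⁅d₁ * s₁, d₂ * s₂⁆ = (d₁ * s₁ * d₁⁻¹) * ((d₁ * d₂) * (s₂ * s₁⁻¹) * (d₁ * d₂)⁻¹) *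
      ((d₁ * d₂ * d₁⁻¹) * s₂⁻¹ * (d₁ * d₂ * d₁⁻¹)⁻¹) * ⁅d₁, d₂⁆ := by
    simp only [commutatorElement_def]
    group
  rw [key]
  have hc : ∀ l ∈ L, ∀ s ∈ N, l * s * l⁻¹ ∈ N := fun l hl s hs => le_normalizer_iff.mp hn l hl s hs
  have h1 := h.1 hd₁
  have h2 := h.1 hd₂
  refine mul_mem (mem_sup_left (mul_mem (mul_mem (hc _ h1 _ hs₁) (hc _ (mul_mem h1 h2) _
    (mul_mem hs₂ (inv_mem hs₁)))) (hc _ (mul_mem (mul_mem h1 h2) (inv_mem h1)) _ (inv_mem hs₂))))
    (mem_sup_right (Subgroup.commutator_mem_commutator hd₁ hd₂))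

theorem coprime_card_of_isPGroup [Finite G] {p q : ℕ} [hp : Fact p.Prime] [hq : Fact q.Prime]
    (hpq : p ≠ q) {A B : Subgroup G} (hA : IsPGroup p A) (hB : IsPGroup q B) :
    (Nat.card A).Coprime (Nat.card B) := by
  obtain ⟨k, hk⟩ := IsPGroup.iff_card.1 hA
  obtain ⟨j, hj⟩ := IsPGroup.iff_card.1 hB
  rw [hk, hj]
  exact Nat.Coprime.pow _ _ ((Nat.coprime_primes hp.out hq.out).2 hpq)

theorem prime_eq_of_dvd_card_isPGroup [Finite G] {p r : ℕ} [hp : Fact p.Prime] (hr : r.Prime)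
    {A : Subgroup G} (hA : IsPGroup p A) (hd : r ∣ Nat.card A) : r = p := by
  obtain ⟨k, hk⟩ := IsPGroup.iff_card.1 hA
  rw [hk] at hd
  exact (Nat.prime_dvd_prime_iff_eq hr hp.out).mp (hr.dvd_of_dvd_pow hd)

theorem dvd_card_of_isPGroup_ne_bot' [Finite G] {q : ℕ} [Fact q.Prime] {X : Subgroup G}
    (hX : IsPGroup q X) (hX1 : X ≠ ⊥) : q ∣ Nat.card X := by
  rcases hX.card_eq_or_dvd with h | h
  · exact absurd ((Subgroup.card_eq_one).1 h) hX1
  · exact h

/-- In a complement `E` of `H_σ`, a `q`-subgroup of `E'` lies in a Sylow `q`-subgroup of `E'`, which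
is normal in `E`. -/
theorem exists_normal_sylow_commutator [Finite G] (hG : IsMinSimpleOddOrder G) {H E : Subgroup G}
    (hH : IsCoatom H) (hE : IsComplIn E (sigmaCore H) H) {q : ℕ} [Fact q.Prime] {X : Subgroup G}
    (hXq : IsPGroup q X) (hX : X ≤ ⁅E, E⁆) :
    ∃ Q, IsSylowIn q Q ⁅E, E⁆ ∧ X ≤ Q ∧ E ≤ normalizer (Q : Set G) := by
  obtain ⟨Q, hQ, hXQ⟩ := exists_isSylowIn_ge hX hXq
  exact ⟨Q, hQ, hXQ, le_normalizer_of_sylow_nilpotent (Helper34.BG13.le_normalizer_commutator_self E)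
    (Cfsg.Agent.S1415.result hG H hH E hE).1 hQ⟩

/-- `A ∈ E_t²(E)`, `t ∈ τ₂(H)`, centralizes every `q`-subgroup of `E'`. -/
theorem tau2_centralizes [Finite G] (hG : IsMinSimpleOddOrder G) {H E : Subgroup G}
    (hH : IsCoatom H) (hE : IsComplIn E (sigmaCore H) H) {t : ℕ} [Fact t.Prime] (ht : t ∈ tau2 H)
    {A : Subgroup G} (hAE : A ≤ E) (hA : IsElementaryAbelian t A) (hAc : Nat.card A = t ^ 2)
    {q : ℕ} [Fact q.Prime] {X : Subgroup G} (hXq : IsPGroup q X) (hX : X ≤ ⁅E, E⁆) :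
    A ≤ centralizer (X : Set G) := by
  have hEN := (Cfsg.Agent.S1418.result hG H hH E hE t ht A ⟨hAE, hA, hAc⟩).1.1
  have hApg : IsPGroup t A := isPGroup_of_exponent hA.2
  have hXE : X ≤ E := hX.trans (Subgroup.commutator_le_self E)
  by_cases htq : t = q
  · subst htq
    have hpg : IsPGroup t (X ⊔ A : Subgroup G) :=
      IsPGroup.to_sup_of_normal_right' hXq hApg (hXE.trans hEN)
    have hc := (Cfsg.Agent.S1420.result hG H hH E hE).1 (X ⊔ A) ((sup_le hXE hAE).trans hE.1)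
      hpg.isNilpotent (by
        intro r hr hd
        rw [prime_eq_of_dvd_card_isPGroup hr hpg hd]
        exact ht.2.1)
    exact le_sup_right.trans (le_centralizer_of_comm hc le_sup_left)
  · obtain ⟨Q, hQ, hXQ, hEQ⟩ := exists_normal_sylow_commutator hG hH hE hXq hX
    have hQE : Q ≤ E := hQ.1.trans (Subgroup.commutator_le_self E)
    exact (le_centralizer_of_normalize_coprime (hAE.trans hEQ) (hQE.trans hEN)
      (coprime_card_of_isPGroup htq hApg hQ.2.1)).trans (centralizer_le (by exact_mod_cast hXQ))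

/-- A complement of `H_σ` contains an elementary abelian subgroup of order `t ^ 2`, `t ∈ τ₂(H)`. -/
theorem exists_elemAb_sq_compl [Finite G] {H E : Subgroup G}
    (hE : IsComplIn E (sigmaCore H) H) {t : ℕ} [Fact t.Prime] (ht : t ∈ tau2 H) :
    ∃ A : Subgroup G, A ≤ E ∧ IsElementaryAbelian t A ∧ Nat.card A = t ^ 2 := by
  have hrE1 : ¬ PRankLE t 1 E := by
    intro h
    obtain ⟨T, hT, -⟩ := exists_isSylowIn_ge (bot_le : (⊥ : Subgroup G) ≤ E)
      (IsPGroup.of_bot (p := t))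
    exact ht.2.2.2 (pRankLE_of_isSylowIn (compl_sylow hE ht.2.1 hT) (pRankLE_mono hT.1 h))
  exact exists_elemAb_sq (pRankLE_mono hE.1 ht.2.2.1) hrE1

/-- Schur–Zassenhaus for a normal Sylow subgroup. -/
theorem exists_compl_of_normal_sylow [Finite G] {p : ℕ} [hp : Fact p.Prime] {T K : Subgroup G}
    (hT : IsSylowIn p T K) (hn : K ≤ normalizer (T : Set G)) :
    ∃ W : Subgroup G, W ≤ K ∧ ¬ p ∣ Nat.card W ∧ W ⊔ T = K ∧ IsComplIn T W K := by
  have hcop : (Nat.card T).Coprime (T.relIndex K) := by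
    obtain ⟨k, hk⟩ := IsPGroup.iff_card.1 hT.2.1
    rw [hk]
    exact Nat.Coprime.pow_left _ ((Nat.Prime.coprime_iff_not_dvd hp.out).2 hT.2.2)
  obtain ⟨W, hWK, hWc, hWs⟩ := Helper1.sz_exists_rel T K hT.1 hn hcop
  refine ⟨W, hWK, by rw [hWc]; exact hT.2.2, hWs, ?_⟩
  apply isComplIn_of_card hT.1 hWK
  · rw [hWc]; exact hcop
  · rw [hWc]; exact Helper23.card_mul_relIndex hT.1

/-- `p ∈ τ₁(M)` passes to the maximal subgroups over `N_G(X)`, `X` a `σ(M)`-subgroup of `C_M(P)`. -/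
theorem tau1_transfer [Finite G] (hG : IsMinSimpleOddOrder G) (h139 : H1378 G) {M L : Subgroup G}
    (hM : IsCoatom M) (hL : IsCoatom L) {q : ℕ} [hqF : Fact q.Prime]
    (hq : q ∈ sigma M) {X : Subgroup G} (hXq : IsPGroup q X) (hX1 : X ≠ ⊥) (hXM : X ≤ M)
    (hNX : normalizer (X : Set G) ≤ L) {p : ℕ} [hpF : Fact p.Prime] (hp : p ∈ tau1 M)
    {P : Subgroup G} (hP : Nat.card P = p) (hPM : P ≤ M) (hPL : P ≤ L) : p ∈ tau1 L := by
  have hU := ut hG
  by_cases hne : L = M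
  · rw [hne]; exact hp
  obtain ⟨-, hD⟩ := tau2_compl hG h139 hM hL hne hq hXq hX1 hXM hNX
  have hpD : p ∣ Nat.card (M ⊓ L : Subgroup G) := by
    rw [← hP]
    exact card_dvd_of_le (le_inf hPM hPL)
  have hpσ : p ∉ sigma L := compl_not_sigma hG hU hL hD hpF.out hpD
  refine ⟨hpF.out, hpσ, hpD.trans (card_dvd_of_le inf_le_right), ?_, ?_⟩
  · intro hd
    have h0 : ⁅L, L⁆ ≤ ⁅M ⊓ L, M ⊓ L⁆ ⊔ sigmaCore L := by
      rw [sup_comm]
      exact commutator_le_sup_of_compl hD (sc_norm L)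
    have h1 := hd.trans ((card_dvd_of_le h0).trans
      (Helper1.card_sup_dvd (H := ⁅M ⊓ L, M ⊓ L⁆) (K := sigmaCore L)
        (((Subgroup.commutator_le_self _).trans inf_le_right).trans (sc_norm L))))
    rcases (Nat.Prime.dvd_mul hpF.out).1 h1 with h | h
    · exact hp.2.2.2.1 (h.trans (card_dvd_of_le (Subgroup.commutator_mono inf_le_left inf_le_left)))
    · exact hpσ (sc_primes L hpF.out h)
  · obtain ⟨T, hT, -⟩ := exists_isSylowIn_ge (bot_le : (⊥ : Subgroup G) ≤ M ⊓ L)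
      (IsPGroup.of_bot (p := p))
    exact pRankLE_of_isSylowIn (compl_sylow hD hpσ hT)
      (pRankLE_mono (hT.1.trans inf_le_left) hp.2.2.2.2)

/-- The case `p ∈ σ(H) - β(H)`. -/
theorem dvd_card_commutator_of_not_beta [Finite G] (hG : IsMinSimpleOddOrder G)
    {H L E : Subgroup G} (hH : IsCoatom H) (hL : IsCoatom L) (hLH : L ≠ H)
    (hE : IsComplIn E (sigmaCore H) H) (hEL : E ≤ L) {p : ℕ} [hpF : Fact p.Prime]
    (hpH : p ∈ sigma H) (hβ : p ∉ beta H) {X : Subgroup G} (hXE : X ≤ ⁅E, E⁆)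
    (hpX : ¬ p ∣ Nat.card X) (hCL : centralizer (X : Set G) ≤ L) : p ∣ Nat.card ↥⁅L, L⁆ := by
  have hU := ut hG
  have hhall := sc_hall hG hU hH
  have hcop : (Nat.card E).Coprime (Nat.card (sigmaCore H)) := by
    rw [← Helper23.complIn_relIndex_right hE]
    exact (Nat.coprime_of_dvd fun k hk h1 h2 => hhall.2.2 k hk (hhall.2.1 k hk h1) h2).symm
  have hsolv : Group.IsSolvable (sigmaCore H) :=
    MS_solvable hG (ne_top_of_le_ne_top hH.1 (sc_le H))
  obtain ⟨T, hTK, hTpg, hTi, hET⟩ := Helper1.exists_invariant_sylow E (sigmaCore H)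
    (hE.1.trans (sc_norm H)) hcop (Or.inr hsolv) p
  have hT : IsSylowIn p T (sigmaCore H) := ⟨hTK, hTpg, hTi⟩
  have hTH := sc_sylow hG hU hH hpH hT
  have hTtop := sigma_isSylowIn_top hpH hTH
  have hpd : p ∣ Nat.card H := hpH.2.1
  obtain ⟨hc1, hc2⟩ := h1414 hG H hH p hpF.out hpd hβ
  have hXE0 : X ≤ E := hXE.trans (Subgroup.commutator_le_self E)
  have hTX : ⁅T, X⁆ = ⊥ := comm_eq_bot_of_normalPComplement
    (Helper34.BG13.le_normalizer_commutator_self H) hc1 hTH.1 hTpg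
    (hXE.trans (Subgroup.commutator_mono hE.1 hE.1)) hpX (hXE0.trans hET)
  have hTL : T ≤ L := (Subgroup.commutator_eq_bot_iff_le_centralizer.1 hTX).trans hCL
  have hTab : IsMulCommutative T := by
    by_contra hna
    have := Cfsg.Agent.S1422.result hG p T hTpg hna
    exact hLH (eq_of_inUniqueMaximal this hH hTH.1 hL hTL)
  have hNT : normalizer (T : Set G) ≤ H := sigma_normalizer_le hpH hTH
  have hN0 : sigmaCore H ⊓ normalizer (T : Set G) ≤ centralizer (T : Set G) := by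
    have hT0 : IsSylowIn p T (sigmaCore H ⊓ normalizer (T : Set G)) :=
      hT.of_le (le_inf hTK le_normalizer) inf_le_left
    obtain ⟨W, hWK, hpW, hWs, -⟩ := exists_compl_of_normal_sylow hT0 inf_le_right
    rw [← hWs]
    refine sup_le ?_ (le_centralizer_of_comm hTab le_rfl)
    have := comm_eq_bot_of_normalPComplement (sc_norm H) hc2 hTH.1 hTpg (hWK.trans inf_le_left)
      hpW (hWK.trans inf_le_right)
    rw [Subgroup.commutator_comm] at this
    exact Subgroup.commutator_eq_bot_iff_le_centralizer.1 this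
  have hTN : IsSylowIn p T (normalizer (T : Set G)) := hTtop.of_le le_normalizer le_top
  obtain ⟨V, hVN, hpV, hVs, hV⟩ := exists_compl_of_normal_sylow hTN le_rfl
  have hidx : ¬ p ∣ T.index := by rw [← relIndex_top_right]; exact hTtop.2.2
  have h11 := (Cfsg.Agent.S1411.result hG p (hTpg.toSylow hidx) V
    (by rw [IsPGroup.toSylow_coe]; exact hV)).1
  rw [IsPGroup.toSylow_coe] at h11
  have hTLL : T ≤ ⁅L, L⁆ := by
    calc T = ⁅T, V⁆ := h11
      _ ≤ ⁅L, L⁆ := by
        rw [Subgroup.commutator_le]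
        intro t ht v hv
        obtain ⟨e, he, s, hs, rfl⟩ := hE.2.2.2 v (hNT (hVN hv))
        have hsN : s ∈ normalizer (T : Set G) := by
          have h1 := mul_mem (inv_mem (hET he)) (hVN hv)
          rwa [inv_mul_cancel_left] at h1
        have hsC := hN0 ⟨hs, hsN⟩
        have hst : t⁻¹ * s = s * t⁻¹ := mem_centralizer_iff.1 hsC t⁻¹ (inv_mem ht)
        have key : ⁅t, e * s⁆ = ⁅t, e⁆ := by
          simp only [commutatorElement_def, mul_inv_rev]
          calc t * (e * s) * t⁻¹ * (s⁻¹ * e⁻¹) = t * e * (s * t⁻¹) * s⁻¹ * e⁻¹ := by group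
            _ = t * e * (t⁻¹ * s) * s⁻¹ * e⁻¹ := by rw [hst]
            _ = t * e * t⁻¹ * e⁻¹ := by group
        rw [key]
        exact Subgroup.commutator_mem_commutator (hTL ht) (hEL he)
  exact (dvd_card_of_isPGroup_ne_bot' hTpg (sylow_ne_bot_of_dvd hTH hpd)).trans
    (card_dvd_of_le hTLL)

/-- The case `p ∈ β(H)`. -/
theorem false_of_beta [Finite G] (hG : IsMinSimpleOddOrder G) {H L : Subgroup G}
    (hH : IsCoatom H) (hL : IsCoatom L) (hLH : L ≠ H) {p : ℕ} [hpF : Fact p.Prime]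
    (hβ : p ∈ beta H) {P : Subgroup G} (hP : Nat.card P = p) (hPH : P ≤ H) {r : ℕ}
    [hrF : Fact r.Prime] (hrH : r ∉ sigma H) (hr1 : PRankLE r 1 H) {R : Subgroup G}
    (hR : Nat.card R = r) (hRH : R ≤ H) (hRP : R ≤ centralizer (P : Set G)) {q : ℕ}
    [hqF : Fact q.Prime] (hqH : q ∉ sigma H) (hqr : q ≠ r) {X : Subgroup G} (hXq : IsPGroup q X)
    (hX1 : X ≠ ⊥) (hXc : IsMulCommutative X) (hXH : X ≤ H) (hXP : X ≤ centralizer (P : Set G))
    (hRX : R ≤ normalizer (X : Set G)) (hXR : ⁅X, R⁆ = X) (hCL : centralizer (X : Set G) ≤ L) :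
    False := by
  have hU := ut hG
  have hα : p ∈ alpha H := hβ.1
  have hpH : p ∈ sigma H := alpha_subset_sigma hG hU hH hα
  have hPpg : IsPGroup p P := IsPGroup.of_card (n := 1) (by rw [hP, pow_one])
  have hRpg : IsPGroup r R := IsPGroup.of_card (n := 1) (by rw [hR, pow_one])
  have hR1 : R ≠ ⊥ := by
    rintro rfl
    rw [card_bot] at hR
    exact hrF.out.one_lt.ne hR
  have hp2 : p ≠ 2 := MS_prime_ne_two hG hpH.2.1
  have hhall := sc_hall hG hU hH
  have hsolv : Group.IsSolvable (sigmaCore H) :=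
    MS_solvable hG (ne_top_of_le_ne_top hH.1 (sc_le H))
  have hprimes : ∀ s : ℕ, s.Prime → s ∣ Nat.card (X ⊔ R : Subgroup G) → s ∉ sigma H := by
    intro s hs hd
    have h1 : s ∣ Nat.card R * Nat.card X := by
      rw [sup_comm] at hd
      exact hd.trans (Helper1.card_sup_dvd hRX)
    rcases (Nat.Prime.dvd_mul hs).1 h1 with h | h
    · rw [prime_eq_of_dvd_card_isPGroup hs hRpg h]; exact hrH
    · rw [prime_eq_of_dvd_card_isPGroup hs hXq h]; exact hqH
  have hcop : (Nat.card (X ⊔ R : Subgroup G)).Coprime (Nat.card (sigmaCore H)) :=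
    Nat.coprime_of_dvd fun k hk h1 h2 => hprimes k hk h1 (hhall.2.1 k hk h2)
  obtain ⟨T, hPT, hTK, hTpg, hTi, hAT⟩ := Helper1.invariant_pSubgroup_le_invariant_sylow (X ⊔ R)
    (sigmaCore H) ((sup_le hXH hRH).trans (sc_norm H)) hcop (Or.inr hsolv) p P
    (le_sc hG hU hH hpH hPH hPpg) hPpg
    ((sup_le hXP hRP).trans (centralizer_le_normalizer _))
  have hT : IsSylowIn p T (sigmaCore H) := ⟨hTK, hTpg, hTi⟩
  have hTH := sc_sylow hG hU hH hpH hT
  have hXT : X ≤ normalizer (T : Set G) := le_sup_left.trans hAT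
  have hRT : R ≤ normalizer (T : Set G) := le_sup_right.trans hAT
  -- `C_{H_α}(R)` has rank at most one
  have hrk : RankLE 1 ↥(alphaCore H ⊓ centralizer (R : Set G)) := by
    by_contra hr
    have hu := cent_alpha'_uniq hG hU hH R hRH (by
      intro s hs hd hsα
      rw [prime_eq_of_dvd_card_isPGroup hs hRpg hd] at hsα
      exact hrH (alpha_subset_sigma hG hU hH hsα)) hr
    obtain ⟨L', hL', hNL'⟩ := exists_coatom_ge
      (MS_normalizer_ne_top hG hR1 (MS_isPGroup_ne_top hG hRpg))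
    have h1 : L' = H := eq_of_inUniqueMaximal hu hH inf_le_left hL'
      ((inf_le_right.trans (centralizer_le_normalizer _)).trans hNL')
    rw [h1] at hNL'
    exact (sigma'_norm_mmax_rank2 hG hU hH hrH hR hNL').1.2 hr1
  have hTα : T ≤ alphaCore H :=
    le_of_normal_of_not_dvd (Helper10.BG124.NU.alphaCore_le H) (Helper10.BG124.NU.alphaCore_norm H)
      ((Helper10.BG124.NU.alphaCore_hall hG hU hH).2.2 p hpF.out hα) hTH.1 hTpg
  have hrkC : PRankLE p 1 ↥(T ⊓ centralizer (R : Set G)) :=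
    pRankLE_mono (inf_le_inf_right _ hTα) (hrk p hpF.out)
  have hCcyc : IsCyclic ↥(T ⊓ centralizer (R : Set G)) :=
    isCyclic_of_pRankLE_one hp2 hTpg.to_inf_left hrkC
  have hCcomm : IsMulCommutative ↥(T ⊓ centralizer (R : Set G)) := IsCyclic.isMulCommutative
  have hPR : P ≤ centralizer (R : Set G) := by
    rw [← Subgroup.commutator_eq_bot_iff_le_centralizer, Subgroup.commutator_comm]
    exact Subgroup.commutator_eq_bot_iff_le_centralizer.2 hRP
  have hPX : P ≤ centralizer (X : Set G) := by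
    rw [← Subgroup.commutator_eq_bot_iff_le_centralizer, Subgroup.commutator_comm]
    exact Subgroup.commutator_eq_bot_iff_le_centralizer.2 hXP
  have hPC : P ≤ T ⊓ centralizer (R : Set G) := le_inf hPT hPR
  have hC : ∀ x ∈ T, x ^ p = 1 → x ∈ centralizer (R : Set G) → x ∈ centralizer (X : Set G) := by
    intro x hxT hxp hxR
    apply hPX
    have hxP : x ∈ centralizer (P : Set G) := le_centralizer_of_comm hCcomm hPC ⟨hxT, hxR⟩
    have hel := elemAb_sup_zpowers (isElementaryAbelian_of_card_prime hP) hxP hxp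
    have hle : P ⊔ zpowers x ≤ T ⊓ centralizer (R : Set G) :=
      sup_le hPC (zpowers_le.2 ⟨hxT, hxR⟩)
    have hcard := (pRankLE_iff _).1 hrkC (P ⊔ zpowers x) hle hel.1 hel.2
    rw [pow_one, ← hP] at hcard
    have heq : P = P ⊔ zpowers x := Subgroup.eq_of_le_of_card_ge le_sup_left hcard
    rw [heq]
    exact mem_sup_right (mem_zpowers x)
  have hfpf : ∀ e ∈ R, e ≠ 1 → ∀ u ∈ X, e * u = u * e → u = 1 := by
    intro e he he1 u hu heu
    have h1 : u ∈ centralizer (R : Set G) := by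
      rw [centralizer_eq_of_card_prime hrF.out hR he he1, mem_centralizer_singleton_iff]
      exact heu.symm
    have h2 := Helper48.commutator_inf_centralizer_eq_bot hXc hRX (by
      intro v hv hvr
      obtain ⟨k, hk⟩ := hXq ⟨v, hv⟩
      have hk' : v ^ q ^ k = 1 := congrArg Subtype.val hk
      rw [hR] at hvr
      exact Helper23.eq_one_of_pow_coprime
        (((Nat.coprime_primes hqF.out hrF.out).2 hqr).pow_left k) hk' hvr)
    rw [hXR] at h2
    have h3 : u ∈ X ⊓ centralizer (R : Set G) := ⟨hu, h1⟩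
    rwa [h2, mem_bot] at h3
  have hcop' : (Nat.card ↥(X ⊔ R)).Coprime p := by
    rw [Nat.coprime_comm, Nat.Prime.coprime_iff_not_dvd hpF.out]
    exact fun hd => hprimes p hpF.out hd hpH
  have hTX := Helper24.BG13F.frob_centralizes_pgroup hp2 hX1 hR1 hRX hfpf hcop' T hTpg hXT hRT hC
  have hr3 : ¬ PRankLE p 2 T := fun h => hα.2 (pRankLE_of_isSylowIn hTH h)
  have hTU : InUniqueMaximal T := hU.of_rank3 hpF.out (MS_isPGroup_ne_top hG hTpg) hr3
  exact hLH (eq_of_inUniqueMaximal hTU hH hTH.1 hL (hTX.trans hCL))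

/-- The core of BG 13.4. -/
theorem core134 [Finite G] (hG : IsMinSimpleOddOrder G) (h139 : H1378 G) {M : Subgroup G}
    (hM : IsCoatom M) {p : ℕ} [hpF : Fact p.Prime] (hp : p ∈ tau1 M) {P : Subgroup G}
    (hPM : P ≤ M) (hP : Nat.card P = p) {r : ℕ} [hrF : Fact r.Prime] {R : Subgroup G}
    (hR : Nat.card R = r) (hRP : R ≤ centralizer (P : Set G)) {q : ℕ} [hqF : Fact q.Prime]
    (hq : q ∈ sigma M) (hqr : q ≠ r) {X : Subgroup G} (hXq : IsPGroup q X) (hXM : X ≤ M)
    (hXP : X ≤ centralizer (P : Set G)) (hRX : R ≤ normalizer (X : Set G)) (hXR : ⁅X, R⁆ = X) :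
    X = ⊥ := by
  by_contra hX1
  have hU := ut hG
  have h14 := h1414 hG
  have hqp : q ≠ p := fun h => hp.2.1 (h ▸ hq)
  have hPpg : IsPGroup p P := IsPGroup.of_card (n := 1) (by rw [hP, pow_one])
  have hRpg : IsPGroup r R := IsPGroup.of_card (n := 1) (by rw [hR, pow_one])
  have hP1 : P ≠ ⊥ := by
    rintro rfl
    rw [card_bot] at hP
    exact hpF.out.one_lt.ne hP
  obtain ⟨H, hH, hNH⟩ := exists_coatom_ge
    (MS_normalizer_ne_top hG hP1 (MS_isPGroup_ne_top hG hPpg))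
  have hCH : centralizer (P : Set G) ≤ H := (centralizer_le_normalizer _).trans hNH
  have hPH : P ≤ H := le_normalizer.trans hNH
  have hXH : X ≤ H := hXP.trans hCH
  have hRH : R ≤ H := hRP.trans hCH
  have hnc : ∀ g, M ≠ cj g H := by
    intro g hg
    by_cases hpH : p ∈ sigma H
    · exact hp.2.1 (by rw [hg]; exact (sigma_cj_iff g).mpr hpH)
    · obtain ⟨⟨hr2, hr1⟩, -, -⟩ := sigma'_norm_mmax_rank2 hG hU hH hpH hP hNH
      apply hr1
      have := pRankLE_cj g⁻¹ hp.2.2.2.2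
      rwa [hg, cj_inv_cj] at this
  have hHM : H ≠ M := fun h => hnc 1 (by rw [cj_one, h])
  have hqH : q ∉ sigma H := by
    intro h
    obtain ⟨g, hg⟩ := h139 H M hH hM ⟨q, h, hq⟩
    exact hnc g hg
  have hqR : ¬ q ∣ Nat.card R := by
    rw [hR]
    intro h
    exact hqr ((Nat.prime_dvd_prime_iff_eq hqF.out hrF.out).1 h)
  have hstar : ¬ (R ≤ sigmaCore H ∨ R ≤ ⁅H, H⁆) := by
    intro h
    have := star hG hU h14 hH hM hnc hq hXH hXq hqR hRX h
    rw [hXR] at this
    exact hX1 this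
  have hrH : r ∉ sigma H := fun h => hstar (Or.inl (le_sc hG hU hH h hRH hRpg))
  have hK : ∀ s : ℕ, s.Prime → s ∣ Nat.card (R ⊔ X : Subgroup G) → s ∉ sigma H := by
    intro s hs hd
    rcases (Nat.Prime.dvd_mul hs).1 (hd.trans (Helper1.card_sup_dvd hRX)) with h | h
    · rw [prime_eq_of_dvd_card_isPGroup hs hRpg h]; exact hrH
    · rw [prime_eq_of_dvd_card_isPGroup hs hXq h]; exact hqH
  obtain ⟨E, hE, hKE⟩ := exists_compl_ge hG hU hH (sup_le hRH hXH) hK
  have hRE : R ≤ E := le_sup_left.trans hKE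
  have hXE : X ≤ E := le_sup_right.trans hKE
  have hXE' : X ≤ ⁅E, E⁆ := by
    rw [← hXR]
    exact Subgroup.commutator_mono hXE hRE
  obtain ⟨L, hL, hNL⟩ := exists_coatom_ge
    (MS_normalizer_ne_top hG hX1 (MS_isPGroup_ne_top hG hXq))
  have hCL : centralizer (X : Set G) ≤ L := (centralizer_le_normalizer _).trans hNL
  have hPX : P ≤ centralizer (X : Set G) := by
    rw [← Subgroup.commutator_eq_bot_iff_le_centralizer, Subgroup.commutator_comm]
    exact Subgroup.commutator_eq_bot_iff_le_centralizer.2 hXP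
  have hPL : P ≤ L := hPX.trans hCL
  have hpL : p ∈ tau1 L := tau1_transfer hG h139 hM hL hq hXq hX1 hXM hNL hp hP hPM hPL
  -- `p ∈ σ(H)`
  have hpH : p ∈ sigma H := by
    by_contra hpH
    obtain ⟨⟨hr2, hr1⟩, -, -⟩ := sigma'_norm_mmax_rank2 hG hU hH hpH hP hNH
    have hτ : p ∈ tau2 H := ⟨hpF.out, hpH, hr2, hr1⟩
    obtain ⟨A, hAE, hA, hAc⟩ := exists_elemAb_sq_compl hE hτ
    have hAL : A ≤ L := (tau2_centralizes hG hH hE hτ hAE hA hAc hXq hXE').trans hCL
    refine not_pRankLE_of_le hAL hA.1 hA.2 ?_ hpL.2.2.2.2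
    rw [hAc]
    exact Nat.pow_lt_pow_right hpF.out.one_lt (by norm_num)
  have hPσ : P ≤ sigmaCore H := le_sc hG hU hH hpH hPH hPpg
  -- `L ≠ H`
  have hLH : L ≠ H := by
    intro h
    rw [h] at hNL
    obtain ⟨-, hD⟩ := tau2_compl hG h139 hM hH hHM hq hXq hX1 hXM hNL
    apply hP1
    rw [eq_bot_iff, ← hD.2.2.1]
    exact le_inf (le_inf hPM hPH) hPσ
  -- `τ₂(H) = ∅`
  have hτ2 : ∀ t : ℕ, t ∉ tau2 H := by
    intro t hτ
    haveI : Fact t.Prime := ⟨hτ.1⟩
    obtain ⟨A, hAE, hA, hAc⟩ := exists_elemAb_sq_compl hE hτ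
    have hAL : A ≤ L := (tau2_centralizes hG hH hE hτ hAE hA hAc hXq hXE').trans hCL
    have h17 := Cfsg.Agent.S1417.result hG H hH t hτ A ⟨hAE.trans hE.1, hA, hAc⟩
    apply hP1
    rw [eq_bot_iff, ← h17.2.2.2.2.1 L hL hLH hAL]
    exact le_inf hPσ hPL
  have hq1 : PRankLE q 1 H := pRankLE_one_of_not hG hH hqF.out hqH (hτ2 q)
  have hr1 : PRankLE r 1 H := pRankLE_one_of_not hG hH hrF.out hrH (hτ2 r)
  obtain ⟨Q, hQ, hXQ, hEQ⟩ := exists_normal_sylow_commutator hG hH hE hXq hXE'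
  have hQH : Q ≤ H := (hQ.1.trans (Subgroup.commutator_le_self E)).trans hE.1
  have hQc : IsCyclic Q := isCyclic_of_pRankLE_one (sigma_ne_two hG hq) hQ.2.1
    (pRankLE_mono hQH hq1)
  have hEL : E ≤ L := (hEQ.trans (normalizer_le_normalizer_of_isCyclic hQc hXQ)).trans hNL
  have hXc : IsMulCommutative X :=
    Helper9.BG12.isMulCommutative_of_le hXQ IsCyclic.isMulCommutative
  by_cases hβ : p ∈ beta H
  · exact false_of_beta hG hH hL hLH hβ hP hPH hrH hr1 hR hRH hRP hqH hqr hXq hX1 hXc hXH hXP hRX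
      hXR hCL
  · refine hpL.2.2.2.1 (dvd_card_commutator_of_not_beta hG hH hL hLH hE hEL hpH hβ hXE' ?_ hCL)
    intro hd
    exact hqp (prime_eq_of_dvd_card_isPGroup hpF.out hXq hd).symm

theorem le_normalizer_commutator_of_le_normalizer {X S : Subgroup G}
    (hSX : S ≤ normalizer (X : Set G)) : S ≤ normalizer ((⁅X, S⁆ : Subgroup G) : Set G) := by
  rw [le_normalizer_iff]
  intro s hs x hx
  have h1 : ⁅X, S⁆ ≤ (⁅X, S⁆).comap (MulAut.conj s).toMonoidHom := by
    rw [Subgroup.commutator_le]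
    intro a ha b hb
    rw [mem_comap, map_commutatorElement]
    exact Subgroup.commutator_mem_commutator (le_normalizer_iff.mp hSX s hs a ha)
      (mul_mem (mul_mem hs hb) (inv_mem hs))
  exact h1 hx

/-- **BG Theorem 13.4** (S1428), modulo Theorem 13.9 (S1378). -/
theorem thm134 [Finite G] (hG : IsMinSimpleOddOrder G) (h139 : H1378 G)
    (M : Subgroup G) (hM : IsCoatom M) (E : Subgroup G) (hE : IsComplIn E (sigmaCore M) M) (p : ℕ)
    (hp : p ∈ tau1 M) (P : Subgroup G) (hPE : P ≤ E) (hP : Nat.card P = p)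
    (R : Subgroup G) (hRE : R ≤ E ⊓ centralizer (P : Set G)) (hR : (Nat.card R).Prime) :
    sigmaCore M ⊓ centralizer (P : Set G) ≤ sigmaCore M ⊓ centralizer (R : Set G) := by
  have hU := ut hG
  haveI : Fact p.Prime := ⟨hp.1⟩
  haveI : Fact (Nat.card R).Prime := ⟨hR⟩
  have hRpg : IsPGroup (Nat.card R) R := IsPGroup.of_card (n := 1) (by rw [pow_one])
  have hRM : R ≤ M := (hRE.trans inf_le_left).trans hE.1
  have hRP : R ≤ centralizer (P : Set G) := hRE.trans inf_le_right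
  have hrσ : Nat.card R ∉ sigma M :=
    compl_not_sigma hG hU hM hE hR (card_dvd_of_le (hRE.trans inf_le_left))
  have hRK : R ≤ normalizer ((sigmaCore M ⊓ centralizer (P : Set G) : Subgroup G) : Set G) :=
    Helper22.le_normalizer_inf_centralizer (hRM.trans (sc_norm M))
      (hRP.trans (centralizer_le_normalizer _))
  have hrK : ¬ Nat.card R ∣ Nat.card (sigmaCore M ⊓ centralizer (P : Set G) : Subgroup G) :=
    fun hd => hrσ (sc_primes M hR (hd.trans (card_dvd_of_le inf_le_left)))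
  have hKD := eq_of_forall_not_dvd_relIndex
    (K := (sigmaCore M ⊓ centralizer (P : Set G)) ⊓ centralizer (R : Set G))
    (D := sigmaCore M ⊓ centralizer (P : Set G)) inf_le_left (by
      intro q hq
      haveI : Fact q.Prime := ⟨hq⟩
      obtain ⟨Q, hQ, hRQ⟩ := exists_inv_sylow hRpg hrK hRK q
      by_cases hqD : q ∣ Nat.card (sigmaCore M ⊓ centralizer (P : Set G) : Subgroup G)
      · have hqσ : q ∈ sigma M := sc_primes M hq (hqD.trans (card_dvd_of_le inf_le_left))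
        have hqr : q ≠ Nat.card R := fun h => hrσ (h ▸ hqσ)
        have hrQ : ¬ Nat.card R ∣ Nat.card Q := fun hd => hrK (hd.trans (card_dvd_of_le hQ.1))
        have hXQ : ⁅Q, R⁆ ≤ Q := Subgroup.le_normalizer_iff_commutator_le_left.1 hRQ
        have h1 : ⁅Q, R⁆ = ⊥ := core134 hG h139 hM hp (hPE.trans hE.1) hP rfl hRP hqσ hqr
          (hQ.2.1.to_le hXQ) (hXQ.trans ((hQ.1.trans inf_le_left).trans (sc_le M)))
          (hXQ.trans (hQ.1.trans inf_le_right)) (le_normalizer_commutator_of_le_normalizer hRQ)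
          (Helper22.commutator_commutator_eq R Q hRpg hrQ hRQ)
        have h2 : Q ≤ centralizer (R : Set G) :=
          Subgroup.commutator_eq_bot_iff_le_centralizer.1 h1
        intro hd
        apply hQ.2.2
        rw [← relIndex_mul_relIndex Q _ _ (le_inf hQ.1 h2) inf_le_left]
        exact Dvd.dvd.mul_left hd _
      · intro hd
        exact hqD (hd.trans (Subgroup.relIndex_dvd_card _ _)))
  refine le_inf inf_le_left ?_
  rw [← hKD]
  exact inf_le_right

end Cfsg.Agent.Lib.Helper91.BG13
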