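import Cfsg.Agent.Lib.Helper31.BG11Ifc
import Cfsg.Agent.Lib.Helper31.BG11a
import Cfsg.Agent.Lib.Helper72.HH5
import Cfsg.Agent.Lib.Helper72.CoprimeC
import Cfsg.Agent.S3769
import Cfsg.Agent.Lib.Helper68.BG11P7s

/-!
# BG 11.7 farm, piece P2 (helper91): `M_σ ≠ 1` for a maximal subgroup `M`.
-/

set_option autoImplicit false

namespace Cfsg.Agent.Lib.Helper91.BG11P2

open Subgroup Cfsg
open Cfsg.Agent.Lib
open Cfsg.Agent.Lib.Helper24 Cfsg.Agent.Lib.Helper34 Cfsg.Agent.Lib.Helper31.BG11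

universe u

variable {G : Type u} [Group G] [Finite G]

/-- (P2) -/
theorem sc_ne_bot (hG : IsMinSimpleOddOrder G) (hU : UT G) {M : Subgroup G} (hM : IsCoatom M) :
    sigmaCore M ≠ ⊥ := by
  intro hbot
  have hMtop : M ≠ ⊤ := hM.1
  have hMbot := MS_coatom_ne_bot hG hM
  have hns : ∀ r : ℕ, r.Prime → r ∣ Nat.card M → r ∉ sigma M := by
    intro r hr hd hs
    have : Fact r.Prime := ⟨hr⟩
    obtain ⟨P, hP, -⟩ :=
      exists_isSylowIn_ge (bot_le : (⊥ : Subgroup G) ≤ M) (IsPGroup.of_bot (p := r))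
    have h1 : P ≤ sigmaCore M := le_sc hG hU hM hs hP.1 hP.2.1
    rw [hbot, le_bot_iff] at h1
    apply hP.2.2
    rw [h1, relIndex_bot_left]
    exact hd
  have hrank : ∀ r : ℕ, r.Prime → r ∣ Nat.card M → PRankLE r 2 M := by
    intro r hr hd
    by_contra hcon
    exact hns r hr hd (alpha_subset_sigma hG hU hM ⟨hr, hcon⟩)
  have hcard1 : Nat.card M ≠ 1 := fun h => hMbot (card_eq_one.mp h)
  obtain ⟨p, hpmem, hpmax⟩ := (Nat.card M).primeFactors.exists_max_image id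
    (Nat.nonempty_primeFactors.mpr (by have := Nat.card_pos (α := M); omega))
  have hp : p.Prime := Nat.prime_of_mem_primeFactors hpmem
  have hpd : p ∣ Nat.card M := Nat.dvd_of_mem_primeFactors hpmem
  have : Fact p.Prime := ⟨hp⟩
  obtain ⟨P, hP, -⟩ :=
    exists_isSylowIn_ge (bot_le : (⊥ : Subgroup G) ≤ M) (IsPGroup.of_bot (p := p))
  have hcore : ∀ r : ℕ, r.Prime → r ∣ Nat.card M → r < p → ∃ K : Subgroup G, K ≤ M ∧
      M ≤ normalizer (K : Set G) ∧ (Nat.card K).Coprime r ∧ P ≤ K := by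
    intro r hr hd hlt
    have : Fact r.Prime := ⟨hr⟩
    obtain ⟨K, hKM, hMK, hKc, hK⟩ :=
      Helper68.BG11P7s.exists_core hG hMtop r (hrank r hr hd) hd
    exact ⟨K, hKM, hMK, hKc, le_of_normal_of_not_dvd hKM hMK (hK p hp hlt) hP.1 hP.2.1⟩
  let T : Subgroup G := sInf {K | K ≤ M ∧ M ≤ normalizer (K : Set G) ∧ P ≤ K}
  have hTM : T ≤ M := sInf_le ⟨le_rfl, le_normalizer, hP.1⟩
  have hPT : P ≤ T := le_sInf (fun K hK => hK.2.2)
  have hMT : M ≤ normalizer (T : Set G) := by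
    intro m hm
    rw [mem_normalizer_iff]
    intro x
    simp only [T, mem_sInf]
    constructor
    · intro hx K hK
      exact (mem_normalizer_iff.mp (hK.2.1 hm) x).mp (hx K hK)
    · intro hx K hK
      exact (mem_normalizer_iff.mp (hK.2.1 hm) x).mpr (hx K hK)
  have hTp : IsPGroup p T := by
    have hpos : Nat.card T ≠ 0 := Nat.card_pos.ne'
    apply IsPGroup.of_card (n := (Nat.card T).primeFactorsList.length)
    apply Nat.eq_prime_pow_of_unique_prime_dvd hpos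
    intro r hr hd
    have hdM : r ∣ Nat.card M := hd.trans (card_dvd_of_le hTM)
    have hle : r ≤ p := hpmax r (Nat.mem_primeFactors.mpr ⟨hr, hdM, Nat.card_pos.ne'⟩)
    by_contra hne
    obtain ⟨K, hKM, hMK, hKc, hPK⟩ := hcore r hr hdM (lt_of_le_of_ne hle hne)
    have hTK : T ≤ K := sInf_le ⟨hKM, hMK, hPK⟩
    have := Nat.eq_one_of_dvd_coprimes hKc (hd.trans (card_dvd_of_le hTK)) dvd_rfl
    exact hr.one_lt.ne' this
  have hTP : P = T := hP.eq_of_le hTM hTp hPT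
  have hMP : M ≤ normalizer (P : Set G) := hTP ▸ hMT
  have hP1 : P ≠ ⊥ := by
    rintro rfl
    apply hP.2.2
    rw [relIndex_bot_left]
    exact hpd
  have hPtop : P ≠ ⊤ := by
    rintro rfl
    exact hMtop (top_le_iff.mp hP.1)
  have hN := MS_normalizer_ne_top hG hP1 hPtop
  rcases hM.le_iff.mp hMP with h | h
  · exact hN h
  · exact hns p hp hpd (mem_sigma_iff.mpr ⟨hpd, P, hP, h.le⟩)

end Cfsg.Agent.Lib.Helper91.BG11P2
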