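import Mathlib
import Cfsg.Agent.Lib.Helper6.ZasFeit
import Cfsg.Prelude.Def_LieRecognition
import Cfsg.Agent.S1137

set_option autoImplicit false

/-! # Zassenhaus groups of odd degree with nonabelian 2-kernel: the kernel is a Suzuki 2-group -/

namespace Cfsg.Agent.Lib.Helper91.SuzZas

open Cfsg MulAction Cfsg.Agent.Lib.Helper6.Zas Cfsg.Agent.Lib.Helper6

/-- conjugation action of a normalising subgroup -/
def conjHom {G : Type*} [Group G] (U N : Subgroup G) (h : ∀ x ∈ N, ∀ u ∈ U, x * u * x⁻¹ ∈ U) :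
    N →* MulAut U where
  toFun x :=
    { toFun := fun u => ⟨x * u * (x : G)⁻¹, h x x.2 u u.2⟩
      invFun := fun u => ⟨(x : G)⁻¹ * u * x, by simpa using h _ (N.inv_mem x.2) u u.2⟩
      left_inv := fun u => Subtype.ext (by simp [mul_assoc])
      right_inv := fun u => Subtype.ext (by simp [mul_assoc])
      map_mul' := fun u v => Subtype.ext (by simp [mul_assoc]) }
  map_one' := by ext u; simp
  map_mul' x y := by ext u; simp [mul_assoc]

theorem conjHom_apply {G : Type*} [Group G] (U N : Subgroup G)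
    (h : ∀ x ∈ N, ∀ u ∈ U, x * u * x⁻¹ ∈ U) (x : N) (u : U) :
    ((conjHom U N h x u : U) : G) = x * u * (x : G)⁻¹ := rfl

/-- basic facts on a regular 2-kernel -/
theorem kernel_facts {G Ω : Type*} [Group G] [Finite G] [MulAction G Ω] [Fintype Ω]
    (hZ : Cfsg.IsZassenhausGroup G Ω) {a b : Ω} (hab : a ≠ b) (U : Subgroup G)
    (hUle : U ≤ stabilizer G a) (hU2 : IsPGroup 2 U)
    (hreg : ∀ y z : Ω, y ≠ a → z ≠ a → ∃! u : U, (u : G) • y = z) :
    (∀ u ∈ U, u ≠ 1 → ∀ c : Ω, u • c = c → c = a) ∧ Nat.card U + 1 = Fintype.card Ω ∧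
      Odd (Fintype.card Ω) ∧ Odd (Nat.card ↥(stabilizer G a ⊓ stabilizer G b)) := by
  classical
  have hb := base_of_zassenhaus hZ
  have hUfix : ∀ u ∈ U, u ≠ 1 → ∀ c : Ω, u • c = c → c = a := by
    intro u hu hu1 c hc
    by_contra hca
    obtain ⟨w, _, hw⟩ := hreg c c hca hca
    have h1 := hw ⟨u, hu⟩ hc
    have h2 := hw 1 (one_smul _ _)
    exact hu1 (congrArg Subtype.val (h1.trans h2.symm))
  have hUcard : Nat.card U + 1 = Fintype.card Ω := by
    have e : Nat.card U = Nat.card {c : Ω // c ≠ a} := by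
      choose f hf hf' using fun z : {c : Ω // c ≠ a} => hreg b z.1 hab.symm z.2
      symm
      apply Nat.card_congr
      refine Equiv.ofBijective f ⟨?_, ?_⟩
      · intro z z' hzz
        apply Subtype.ext
        rw [← hf z, ← hf z', hzz]
      · intro u
        have hne : (u : G) • b ≠ a := by
          intro h
          have h1 : (u : G) • a = a := hUle u.2
          exact hab (MulAction.injective (u : G) (h1.trans h.symm))
        refine ⟨⟨(u : G) • b, hne⟩, ?_⟩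
        exact (hf' ⟨(u : G) • b, hne⟩ u rfl).symm
    rw [e, Nat.card_eq_fintype_card, Fintype.card_subtype_compl, Fintype.card_subtype_eq]
    have : 0 < Fintype.card Ω := Fintype.card_pos_iff.2 ⟨a⟩
    omega
  obtain ⟨k, hk⟩ := IsPGroup.iff_card.mp hU2
  have hk0 : k ≠ 0 := by
    rintro rfl
    obtain ⟨c, hca, hcb⟩ := exists_third hZ a b
    have h3 : 2 < Fintype.card Ω := by
      rw [Fintype.two_lt_card_iff]
      exact ⟨a, b, c, hab, hca.symm, hcb.symm⟩
    rw [← hUcard, hk] at h3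
    norm_num at h3
  have hev : Even (Nat.card U) := by
    rw [hk]; exact (Nat.even_pow.mpr ⟨even_two, hk0⟩)
  have hn : Odd (Fintype.card Ω) := by rw [← hUcard]; exact hev.add_one
  refine ⟨hUfix, hUcard, hn, ?_⟩
  have hd := hb.card_stab2_dvd hab hUcard.symm
  have hpos : 0 < Nat.card U := Nat.card_pos
  have hodd1 : Odd (Nat.card U - 1) := by
    obtain ⟨m, hm⟩ := hev
    exact ⟨m - 1, by omega⟩
  exact Odd.of_dvd_nat hodd1 hd

/-- involutions in a Zassenhaus group with regular 2-kernel -/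
theorem invol_facts {G Ω : Type*} [Group G] [Finite G] [MulAction G Ω] [Fintype Ω]
    (hZ : Cfsg.IsZassenhausGroup G Ω) {a b : Ω} (hab : a ≠ b) (U : Subgroup G)
    (hUle : U ≤ stabilizer G a) (hU2 : IsPGroup 2 U)
    (hreg : ∀ y z : Ω, y ≠ a → z ≠ a → ∃! u : U, (u : G) • y = z) :
    (∀ t : G, t ≠ 1 → t * t = 1 → ∃ c : Ω, t • c = c ∧ ∀ d : Ω, t • d = d → d = c) ∧
    (∀ t : G, t ≠ 1 → t * t = 1 → t • a = a → t ∈ U) ∧
    (∀ x ∈ stabilizer G a ⊓ stabilizer G b, ∀ u ∈ U, u ≠ 1 → x * u * x⁻¹ = u → x = 1) ∧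
    (∀ x ∈ stabilizer G a, ∀ u ∈ U, x * u * x⁻¹ ∈ U) ∧
    (∀ s t : G, s ≠ 1 → s * s = 1 → s • a = a → t ≠ 1 → t * t = 1 → t • a = a →
      ∃ x ∈ stabilizer G a ⊓ stabilizer G b, x * s * x⁻¹ = t) ∧
    (Nat.card {t : G // (t ≠ 1 ∧ t * t = 1) ∧ t • a = a} =
      Nat.card ↥(stabilizer G a ⊓ stabilizer G b)) := by
  classical
  have : Fintype G := Fintype.ofFinite G
  have hb := base_of_zassenhaus hZ
  obtain ⟨hUfix, hUcard, hn, hodd⟩ := kernel_facts hZ hab U hUle hU2 hreg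
  have hset := kernel_setup hb hab U hUle hUcard hUfix
  have hsw : ∀ c d : Ω, c ≠ d → ∀ s : G, s • c = d → s • d = c → s * s = 1 := by
    intro c d hcd s h1 h2
    exact (swap_inverts_of_odd_degree hZ hn hcd (by rw [hb.card_stab2 hab hcd]; exact hodd) s h1 h2).1
  have hfix : ∀ t : G, t ≠ 1 → t * t = 1 → ∃ c : Ω, t • c = c ∧ ∀ d : Ω, t • d = d → d = c := by
    intro t ht1 ht2
    obtain ⟨c, hc⟩ := hb.invol_exists_fix hn t ht1 ht2
    exact ⟨c, hc, fun d hd => hb.invol_fix_unique hab hodd t ht1 ht2 hd hc⟩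
  have hinU : ∀ t : G, t ≠ 1 → t * t = 1 → t • a = a → t ∈ U := by
    intro t ht1 ht2 hta
    apply mem_kernel hb hab U hUle hUcard hUfix t hta
    intro d hd
    exact hb.invol_fix_unique hab hodd t ht1 ht2 hd hta
  have hfree : ∀ x ∈ stabilizer G a ⊓ stabilizer G b, ∀ u ∈ U, u ≠ 1 → x * u * x⁻¹ = u → x = 1 := by
    intro x hx u hu hu1 hxu
    have h1 : x ∈ Subgroup.centralizer ({u} : Set G) := by
      rw [Subgroup.mem_centralizer_singleton_iff]
      exact mul_inv_eq_iff_eq_mul.mp hxu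
    have h2 : x ∈ U := hset.cent u hu hu1 h1
    by_contra hx1
    exact hab (hUfix x h2 hx1 b hx.2).symm
  have hcount := (hb.card_invol_of_fix hab rfl hUcard.symm hsw hfix).2 a
  have hcard : Nat.card {t : G // (t ≠ 1 ∧ t * t = 1) ∧ t • a = a} =
      Nat.card ↥(stabilizer G a ⊓ stabilizer G b) := by
    rw [← hcount, Nat.card_eq_fintype_card, Fintype.card_subtype]
  refine ⟨hfix, hinU, hfree, hset.normal, ?_, hcard⟩
  intro s t hs1 hs2 hsa ht1 ht2 hta
  let f : ↥(stabilizer G a ⊓ stabilizer G b) → {t : G // (t ≠ 1 ∧ t * t = 1) ∧ t • a = a} :=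
    fun x => ⟨x * s * (x : G)⁻¹, ⟨by
      intro h
      apply hs1
      have : s = (x : G)⁻¹ * (x * s * (x : G)⁻¹) * x := by group
      rw [this, h]; group, by
      have : (x : G) * s * (x : G)⁻¹ * (x * s * (x : G)⁻¹) = x * (s * s) * (x : G)⁻¹ := by group
      rw [this, hs2]; group⟩, by
      have hxa : (x : G) • a = a := x.2.1
      rw [mul_smul, mul_smul, inv_smul_eq_iff.mpr hxa.symm, hsa, hxa]⟩
  have hinj : Function.Injective f := by
    intro x y hxy
    have h1 : (x : G) * s * (x : G)⁻¹ = y * s * (y : G)⁻¹ := congrArg Subtype.val hxy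
    have h2 : ((y : G)⁻¹ * x) * s * ((y : G)⁻¹ * x)⁻¹ = s := by
      have : ((y : G)⁻¹ * x) * s * ((y : G)⁻¹ * x)⁻¹ = (y : G)⁻¹ * (x * s * (x : G)⁻¹) * y := by group
      rw [this, h1]; group
    have h3 := hfree _ (Subgroup.mul_mem _ (Subgroup.inv_mem _ y.2) x.2) s (hinU s hs1 hs2 hsa) hs1 h2
    apply Subtype.ext
    exact (inv_mul_eq_one.mp h3).symm
  have hbij : Function.Bijective f := by
    rw [Nat.bijective_iff_injective_and_card]
    exact ⟨hinj, hcard.symm⟩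
  obtain ⟨x, hx⟩ := hbij.2 ⟨t, ⟨ht1, ht2⟩, hta⟩
  exact ⟨x, x.2, congrArg Subtype.val hx⟩

theorem suz_kernel {G Ω : Type*} [Group G] [Finite G] [MulAction G Ω] [Finite Ω]
    (hZ : Cfsg.IsZassenhausGroup G Ω) {a b : Ω} (hab : a ≠ b) (U : Subgroup G)
    (hUle : U ≤ stabilizer G a) (hU2 : IsPGroup 2 U) (hUna : ∃ u v : U, u * v ≠ v * u)
    (hreg : ∀ y z : Ω, y ≠ a → z ≠ a → ∃! u : U, (u : G) • y = z) :
    Cfsg.IsSuzukiTwoGroup U ∧ IsCyclic ↥(stabilizer G a ⊓ stabilizer G b) ∧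
      Nat.card (Subgroup.center U) = Nat.card ↥(stabilizer G a ⊓ stabilizer G b) + 1 := by
  classical
  have : Fintype Ω := Fintype.ofFinite Ω
  have hb := base_of_zassenhaus hZ
  obtain ⟨hUfix, hUcard, hn, hodd⟩ := kernel_facts hZ hab U hUle hU2 hreg
  obtain ⟨hfix, hinU, hfree, hnorm, htrans, hcard⟩ := invol_facts hZ hab U hUle hU2 hreg
  set H := stabilizer G a ⊓ stabilizer G b with hH
  -- H abelian
  obtain ⟨t, ht2, hta, htb⟩ := exists_invol_swap hZ hab
  have hinv := (swap_inverts_of_odd_degree hZ hn hab hodd t hta htb).2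
  have hcomm : ∀ x y : H, x * y = y * x := by
    intro x y
    apply Subtype.ext
    have h1 := hinv x x.2
    have h2 := hinv y y.2
    have h3 := hinv (x * y) (H.mul_mem x.2 y.2)
    have h4 : t * ((x : G) * y) * t⁻¹ = (t * x * t⁻¹) * (t * y * t⁻¹) := by group
    rw [h4, h1, h2] at h3
    have h5 : ((y : G) * x)⁻¹ = ((x : G) * y)⁻¹ := by rw [mul_inv_rev]; exact h3
    exact (inv_injective h5).symm
  have hcyc : IsCyclic H := by
    have hz : IsZGroup H := isZGroup_stab2 hZ hab hodd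
    let _ : CommGroup H := { (inferInstance : Group H) with mul_comm := hcomm }
    have hnil : Group.IsNilpotent H := CommGroup.isNilpotent
    infer_instance
  have hnormH : ∀ x ∈ H, ∀ u ∈ U, x * u * x⁻¹ ∈ U := fun x hx u hu => hnorm x hx.1 u hu
  let φ := conjHom U H hnormH
  have hd1 : 1 < Nat.card H := one_lt_card_stab2 hZ hab
  have hP : Cfsg.IsSuzukiTwoGroup U := by
    refine ⟨inferInstance, hU2, hUna, ?_, φ.range, ?_, ?_⟩
    · rw [← hcard, Finite.one_lt_card_iff_nontrivial] at hd1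
      obtain ⟨x, y, hxy⟩ := hd1
      refine ⟨⟨x.1, hinU x.1 x.2.1.1 x.2.1.2 x.2.2⟩, ⟨y.1, hinU y.1 y.2.1.1 y.2.1.2 y.2.2⟩, ?_, ?_, ?_, ?_, ?_⟩
      · intro h
        have h' : (x : G) = y := congrArg (fun u : U => (u : G)) h
        exact hxy (Subtype.ext h')
      · intro h
        exact x.2.1.1 (congrArg Subtype.val h)
      · exact Subtype.ext x.2.1.2
      · intro h
        exact y.2.1.1 (congrArg Subtype.val h)
      · exact Subtype.ext y.2.1.2
    · exact isCyclic_of_surjective φ.rangeRestrict φ.rangeRestrict_surjective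
    · intro x y hx1 hx2 hy1 hy2
      have hx1' : (x : G) ≠ 1 := fun h => hx1 (Subtype.ext h)
      have hy1' : (y : G) ≠ 1 := fun h => hy1 (Subtype.ext h)
      have hx2' : (x : G) * x = 1 := congrArg Subtype.val hx2
      have hy2' : (y : G) * y = 1 := congrArg Subtype.val hy2
      obtain ⟨h, hh, hhx⟩ := htrans x y hx1' hx2' (hUle x.2) hy1' hy2' (hUle y.2)
      refine ⟨⟨φ ⟨h, hh⟩, ⟨h, hh⟩, rfl⟩, Subtype.ext hhx, ?_⟩
      rintro ⟨_, ⟨h', rfl⟩⟩ hk
      have hk' : (h' : G) * x * (h' : G)⁻¹ = y := congrArg Subtype.val hk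
      have h2 : (h⁻¹ * (h' : G)) * x * (h⁻¹ * (h' : G))⁻¹ = x := by
        have : (h⁻¹ * (h' : G)) * x * (h⁻¹ * (h' : G))⁻¹ = h⁻¹ * (h' * x * (h' : G)⁻¹) * h := by group
        rw [this, hk', ← hhx]; group
      have h3 := hfree _ (H.mul_mem (H.inv_mem hh) h'.2) x x.2 hx1' h2
      have h4 : h' = ⟨h, hh⟩ := Subtype.ext (inv_mul_eq_one.mp h3).symm
      subst h4
      rfl
  refine ⟨hP, hcyc, ?_⟩
  have hS := (Cfsg.Agent.S1137.result hP).1
  rw [← hcard]
  have e : Nat.card {t : G // (t ≠ 1 ∧ t * t = 1) ∧ t • a = a} =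
      Nat.card {z : Subgroup.center U // z ≠ 1} := by
    apply Nat.card_congr
    refine
      { toFun := fun t => ⟨⟨⟨t.1, hinU t.1 t.2.1.1 t.2.1.2 t.2.2⟩,
          ((hS ⟨t.1, hinU t.1 t.2.1.1 t.2.1.2 t.2.2⟩).mp
            ⟨fun h => t.2.1.1 (congrArg Subtype.val h), Subtype.ext t.2.1.2⟩).1⟩,
          fun h => t.2.1.1 (congrArg (fun z : Subgroup.center U => ((z : U) : G)) h)⟩
        invFun := fun z => ⟨((z.1 : U) : G), ?_, hUle z.1.1.2⟩
        left_inv := fun t => rfl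
        right_inv := fun z => rfl }
    have h1 := (hS z.1.1).mpr ⟨z.1.2, fun h => z.2 (Subtype.ext h)⟩
    exact ⟨fun h => h1.1 (Subtype.ext h), congrArg Subtype.val h1.2⟩
  rw [e]
  have : Fintype (Subgroup.center U) := Fintype.ofFinite _
  rw [Nat.card_eq_fintype_card, Nat.card_eq_fintype_card, Fintype.card_subtype_compl,
    Fintype.card_subtype_eq]
  have : 0 < Fintype.card (Subgroup.center U) := Fintype.card_pos
  omega

end Cfsg.Agent.Lib.Helper91.SuzZas
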