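import Mathlib
import Cfsg.Agent.Lib.Helper1.FPF
import Cfsg.Agent.Lib.Helper91.FPF4a

set_option autoImplicit false

namespace Cfsg.Agent.Lib.Helper91.FPF4

open Cfsg.Agent.Lib.Helper1 Cfsg.Agent.Lib.Helper1.FPF

section gen
variable {M : Type*} [Group M]

/-- `R` is invariant under conjugation by `g` -/
def Inv (g : M) (R : Subgroup M) : Prop := ∀ y ∈ R, g * y * g⁻¹ ∈ R

theorem Inv.commutator {g : M} {R : Subgroup M} (h : Inv g R) : Inv g ⁅R, R⁆ := by
  intro y hy
  have h1 : (MulAut.conj g).toMonoidHom y ∈ (⁅R, R⁆).map (MulAut.conj g).toMonoidHom :=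
    Subgroup.mem_map_of_mem _ hy
  rw [Subgroup.map_commutator] at h1
  have h2 : R.map (MulAut.conj g).toMonoidHom ≤ R := by
    rintro _ ⟨z, hz, rfl⟩
    exact h z hz
  exact Subgroup.commutator_mono h2 h2 h1

theorem Inv.pow {g : M} {R : Subgroup M} (h : Inv g R) (k : ℕ) : Inv (g ^ k) R := by
  induction k with
  | zero => intro y hy; simpa using hy
  | succ k ih =>
    intro y hy
    have := h _ (ih y hy)
    have e : g ^ (k + 1) * y * (g ^ (k + 1))⁻¹ = g * (g ^ k * y * (g ^ k)⁻¹) * g⁻¹ := by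
      rw [pow_succ']; group
    rw [e]; exact this

theorem Inv.inv_of_pow_eq_one {g : M} {R : Subgroup M} (h : Inv g R) {n : ℕ} (hn : g ^ (n + 1) = 1) :
    Inv g⁻¹ R := by
  have : g⁻¹ = g ^ n := by
    rw [inv_eq_iff_mul_eq_one, ← pow_succ', hn]
  rw [this]; exact h.pow n

end gen

/-- an automorphism `Z` without fixed points inverts the fixed points of `Z ^ 2` (abelian case) -/
theorem apply_eq_inv_of_sq_fixed {A : Type*} [Group A] (hA : ∀ a b : A, a * b = b * a) (Z : MulAut A)
    (hZ : ∀ a : A, Z a = a → a = 1) (a : A) (ha : Z (Z a) = a) : Z a = a⁻¹ := by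
  have h1 : Z (a * Z a) = a * Z a := by rw [map_mul, ha, hA]
  have h2 := hZ _ h1
  exact (eq_inv_of_mul_eq_one_right h2)

theorem lemmaA {A : Type*} [Group A] [Finite A] (hA : ∀ a b : A, a * b = b * a) {p : ℕ} (hp : p.Prime)
    (hexp : ∀ a : A, a ^ p = 1) (X : MulAut A) (H : Subgroup (MulAut A))
    (hsol : Group.IsSolvable H) (hodd : Odd (Nat.card H))
    (hXH : ∀ y ∈ H, X * y * X⁻¹ ∈ H)
    (hpow : ∀ y ∈ H, (X * y) ^ 4 = 1)
    (hfpf : ∀ y ∈ H, ∀ a : A, (X * y) a = a → a = 1)
    (hfH : ∀ y ∈ H, X * y = y * X → y = 1)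
    (hirr : ∀ B : Subgroup A, (∀ y ∈ H, ∀ b ∈ B, y b ∈ B) → (∀ b ∈ B, X b ∈ B) → B = ⊥ ∨ B = ⊤) :
    ∀ y ∈ H, ∀ z ∈ H, y * z = z * y := by
  classical
  have : Fact p.Prime := ⟨hp⟩
  have hfin : Finite (MulAut A) := Finite.of_injective (fun e : MulAut A => (e : A → A)) DFunLike.coe_injective
  have hX4 : X ^ 4 = 1 := by simpa using hpow 1 H.one_mem
  have hXf : ∀ a : A, X a = a → a = 1 := by simpa using hfpf 1 H.one_mem
  by_cases hH : H = ⊥
  · intro y hy z hz
    rw [hH, Subgroup.mem_bot] at hy hz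
    rw [hy, hz]
  let S : Set (Subgroup (MulAut A)) := {R | R ≤ H ∧ R ≠ ⊥ ∧ (∀ h ∈ H, Inv h R) ∧ Inv X R}
  obtain ⟨R, hR⟩ := (Set.toFinite S).exists_minimal
    ⟨H, le_rfl, hH, fun h hh y hy => H.mul_mem (H.mul_mem hh hy) (H.inv_mem hh), hXH⟩
  obtain ⟨hRH, hRne, hRi, hRX⟩ := hR.prop
  have hmin : ∀ M : Subgroup (MulAut A), M ≤ R → (∀ h ∈ H, Inv h M) → Inv X M → M = ⊥ ∨ M = R := by
    intro M h1 h2 h3
    by_cases hM0 : M = ⊥
    · exact Or.inl hM0
    · exact Or.inr (le_antisymm h1 (hR.le_of_le ⟨h1.trans hRH, hM0, h2, h3⟩ h1))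
  have hRX' : Inv X⁻¹ R := hRX.inv_of_pow_eq_one (n := 3) hX4
  -- `R` is abelian
  have hRsol : Group.IsSolvable R :=
    Group.isSolvable_of_isSolvable_injective (Subgroup.inclusion_injective hRH)
  have hlt := commutator_lt_of_isSolvable hRsol hRne
  have hbot : ⁅R, R⁆ = ⊥ := by
    rcases hmin ⁅R, R⁆ hlt.le (fun h hh => (hRi h hh).commutator) hRX.commutator with h | h
    · exact h
    · exact absurd h hlt.ne
  have hcomm : ∀ x ∈ R, ∀ y ∈ R, x * y = y * x := by
    rw [Subgroup.commutator_eq_bot_iff_le_centralizer] at hbot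
    intro x hx y hy
    exact ((Subgroup.mem_centralizer_iff.1 (hbot hx)) y hy).symm
  -- the fixed points of `R`
  let B : Subgroup A :=
    { carrier := {a | ∀ y ∈ R, y a = a}
      mul_mem' := by
        intro a b ha hb y hy
        rw [map_mul, ha y hy, hb y hy]
      one_mem' := fun y _ => map_one y
      inv_mem' := by
        intro a ha y hy
        rw [map_inv, ha y hy] }
  have hBtop : B ≠ ⊤ := by
    intro h
    apply hRne
    rw [eq_bot_iff]
    intro y hy
    rw [Subgroup.mem_bot]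
    ext a
    have : a ∈ B := by rw [h]; trivial
    exact this y hy
  have hBbot : B = ⊥ := by
    have hB := hirr B ?_ ?_
    · rcases hB with h | h
      · exact h
      · exact absurd h hBtop
    · intro h hh b hb y hy
      have h1 := hRi h⁻¹ (H.inv_mem hh) y hy
      have h2 := hb _ h1
      rw [inv_inv] at h2
      have h3 : (h⁻¹ * y * h) b = h⁻¹ (y (h b)) := rfl
      rw [h3] at h2
      have h4 := congrArg h h2
      rwa [MulAut.apply_inv_self] at h4
    · intro b hb y hy
      have h1 := hRX' y hy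
      have h2 := hb _ h1
      rw [inv_inv] at h2
      have h3 : (X⁻¹ * y * X) b = X⁻¹ (y (X b)) := rfl
      rw [h3] at h2
      have h4 := congrArg X h2
      rwa [MulAut.apply_inv_self] at h4
  -- `R` is a `p'`-group
  let Ω : Subgroup (MulAut A) :=
    { carrier := {x | x ∈ R ∧ x ^ p = 1}
      mul_mem' := by
        rintro a b ⟨ha, ha'⟩ ⟨hb, hb'⟩
        refine ⟨R.mul_mem ha hb, ?_⟩
        rw [(show Commute a b from hcomm a ha b hb).mul_pow, ha', hb', one_mul]
      one_mem' := ⟨R.one_mem, one_pow _⟩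
      inv_mem' := by
        rintro a ⟨ha, ha'⟩
        exact ⟨R.inv_mem ha, by rw [inv_pow, ha', inv_one]⟩ }
  have hΩinv : ∀ g : MulAut A, Inv g R → Inv g Ω := by
    rintro g hg x ⟨hx, hx'⟩
    exact ⟨hg x hx, by rw [conj_pow, hx', mul_one, mul_inv_cancel]⟩
  have hApg : IsPGroup p A := fun a => ⟨1, by rw [pow_one]; exact hexp a⟩
  have hΩbot : Ω = ⊥ := by
    rcases hmin Ω (fun x hx => hx.1) (fun h hh => hΩinv h (hRi h hh)) (hΩinv X hRX) with h | h
    · exact h
    · exfalso
      have hRpg : IsPGroup p R := isPGroup_of_forall_pow_eq_one (fun x hx => by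
        rw [← h] at hx; exact hx.2)
      have hAnt : Nontrivial A := by
        by_contra hcon
        rw [not_nontrivial_iff_subsingleton] at hcon
        apply hBtop
        rw [eq_top_iff]
        intro a _
        rw [Subsingleton.elim a 1]
        exact B.one_mem
      obtain ⟨n, hn0, hn⟩ := (hApg.nontrivial_iff_card).1 hAnt
      have hdvd : p ∣ Nat.card A := by rw [hn]; exact dvd_pow_self p hn0.ne'
      have h1 : (1 : A) ∈ MulAction.fixedPoints R A := by
        intro y
        exact map_one (y : MulAut A)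
      obtain ⟨b, hb, hb1⟩ := hRpg.exists_fixed_point_of_prime_dvd_card_of_fixed_point A hdvd h1
      have hbB : b ∈ B := fun y hy => hb ⟨y, hy⟩
      rw [hBbot, Subgroup.mem_bot] at hbB
      exact hb1 hbB.symm
  have hcop : (Nat.card R).Coprime p := by
    rw [Nat.coprime_comm, Nat.Prime.coprime_iff_not_dvd hp]
    intro hdvd
    obtain ⟨x, hx⟩ := exists_prime_orderOf_dvd_card' (G := R) p hdvd
    have h1 : (x : MulAut A) ∈ Ω := ⟨x.2, by
      rw [← Subgroup.coe_pow, ← hx, pow_orderOf_eq_one, Subgroup.coe_one]⟩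
    rw [hΩbot, Subgroup.mem_bot] at h1
    have h2 : x = 1 := Subtype.ext h1
    rw [h2, orderOf_one] at hx
    exact hp.one_lt.ne hx
  set T : MulAut A := X * X with hT
  have hT2 : T * T = 1 := by
    have e : T * T = X ^ 4 := by
      rw [hT]; simp only [pow_succ, pow_zero, one_mul, mul_assoc]
    rw [e, hX4]
  have hTinv : T⁻¹ = T := inv_eq_of_mul_eq_one_left hT2
  have hTX : T * X = X * T := by rw [hT, mul_assoc]
  by_cases hTR : ∀ y ∈ R, T * y = y * T
  · -- `T` centralizes `R`
    have ha : ∀ y ∈ R, X * y * X⁻¹ = y⁻¹ := by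
      intro y hy
      have hy' := hRX y hy
      have h1 : X * (y * (X * y * X⁻¹)) = (y * (X * y * X⁻¹)) * X := by
        have e1 : X * (y * (X * y * X⁻¹)) = (X * y * X⁻¹) * (T * y) * X⁻¹ := by rw [hT]; group
        rw [e1, hTR y hy, hcomm y hy _ hy', hT]; group
      have h2 := hfH _ (hRH (R.mul_mem hy hy')) h1
      exact (eq_inv_of_mul_eq_one_right h2)
    have hb : ∀ y ∈ R, (X * y) * (X * y) = T := by
      intro y hy
      have e1 : (X * y) * (X * y) = (X * y * X⁻¹) * (T * y) := by rw [hT]; group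
      rw [e1, ha y hy, hTR y hy, inv_mul_cancel_left]
    have hd : ∀ a : A, T a = a → a = 1 := by
      intro a haT
      have h1 : a ∈ B := by
        intro y hy
        have h2 : X a = a⁻¹ := apply_eq_inv_of_sq_fixed hA X hXf a haT
        have h3 : (X * y) a = a⁻¹ := by
          apply apply_eq_inv_of_sq_fixed hA (X * y) (hfpf y (hRH hy)) a
          have : (X * y) ((X * y) a) = ((X * y) * (X * y)) a := rfl
          rw [this, hb y hy, haT]
        have h4 : X (y a) = X a := by rw [h2, ← h3]; rfl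
        exact X.injective h4
      rwa [hBbot, Subgroup.mem_bot] at h1
    have he : ∀ a : A, T a = a⁻¹ := by
      intro a
      apply apply_eq_inv_of_sq_fixed hA T hd a
      have : T (T a) = (T * T) a := rfl
      rw [this, hT2]; rfl
    have hf : ∀ y : MulAut A, T * y = y * T := by
      intro y
      ext a
      change T (y a) = y (T a)
      rw [he, he, map_inv]
    let φH : H →* H := ((MulAut.conj X).toMonoidHom.comp H.subtype).codRestrict H (fun y => hXH y y.2)
    have hφH : ∀ y : H, ((φH y : H) : MulAut A) = X * y * X⁻¹ := fun y => rfl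
    have hfp : MonoidHom.FixedPointFree φH := by
      intro y hy
      have h1 : X * (y : MulAut A) * X⁻¹ = y := by rw [← hφH, hy]
      apply Subtype.ext
      apply hfH y y.2
      rw [mul_inv_eq_iff_eq_mul] at h1
      exact h1
    have hinv : Function.Involutive φH := by
      intro y
      apply Subtype.ext
      rw [hφH, hφH]
      have e1 : X * (X * (y : MulAut A) * X⁻¹) * X⁻¹ = (T * y) * T⁻¹ := by rw [hT]; group
      rw [e1, hf, mul_inv_cancel_right]
    intro y hy z hz
    have := hfp.commute_all_of_involutive hinv ⟨y, hy⟩ ⟨z, hz⟩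
    exact congrArg Subtype.val this
  · exfalso
    push Not at hTR
    obtain ⟨y, hy, hyT⟩ := hTR
    have hRT : Inv T R := by
      intro z hz
      have := hRX _ (hRX z hz)
      have e : T * z * T⁻¹ = X * (X * z * X⁻¹) * X⁻¹ := by rw [hT]; group
      rw [e]; exact this
    let E : Subgroup (MulAut A) :=
      { carrier := {x | x ∈ R ∧ T * x * T⁻¹ = x⁻¹}
        mul_mem' := by
          rintro a b ⟨ha, ha'⟩ ⟨hb, hb'⟩
          refine ⟨R.mul_mem ha hb, ?_⟩
          have e : T * (a * b) * T⁻¹ = (T * a * T⁻¹) * (T * b * T⁻¹) := by group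
          rw [e, ha', hb', mul_inv_rev, hcomm _ (R.inv_mem ha) _ (R.inv_mem hb)]
        one_mem' := ⟨R.one_mem, by simp⟩
        inv_mem' := by
          rintro a ⟨ha, ha'⟩
          refine ⟨R.inv_mem ha, ?_⟩
          have e : T * a⁻¹ * T⁻¹ = (T * a * T⁻¹)⁻¹ := by group
          rw [e, ha'] }
    have hER : E ≤ R := fun x hx => hx.1
    have hodd' : ∀ d ∈ H, d * d = 1 → d = 1 := by
      intro d hd hdd
      have h1 : orderOf d ∣ 2 := orderOf_dvd_of_pow_eq_one (by rw [pow_two, hdd])
      have h2 : orderOf d ∣ Nat.card H := Subgroup.orderOf_dvd_natCard H hd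
      have h3 : (Nat.card H).Coprime 2 := Nat.Coprime.symm (Nat.coprime_two_left.2 hodd)
      have h4 : orderOf d = 1 := Nat.eq_one_of_dvd_coprimes h3 h2 h1
      exact orderOf_eq_one_iff.1 h4
    have hE : E = ⊥ := by
      apply mulAut_eq_bot_of_norm_coset_eq_one' hA hexp X E
        (Nat.Coprime.coprime_dvd_left (Subgroup.card_dvd_of_le hER) hcop) ?_ (n := 4) (by norm_num) ?_ ?_
      · rintro x ⟨hx, hx'⟩
        refine ⟨by simpa using hRX' x hx, ?_⟩
        have e : T * (X⁻¹ * x * X) * T⁻¹ = X⁻¹ * (T * x * T⁻¹) * X := by rw [hT]; group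
        rw [e, hx']; group
      · intro k hk0 hk4 x hx x' hx' hxx
        have hk : k = 1 ∨ k = 2 ∨ k = 3 := by omega
        rcases hk with rfl | rfl | rfl
        · simpa using hxx
        · -- the interesting case
          have hxR := hx.1
          have hxR' := hx'.1
          have h1 : (X⁻¹ * x * X) * x = (X⁻¹ * x' * X) * x' := by
            have e1 : ∀ w : MulAut A, (X⁻¹ * w * X) * w = X⁻¹ * X⁻¹ * (X * w) ^ 2 := by
              intro w; rw [pow_two]; group
            rw [e1, e1, hxx]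
          set d := x'⁻¹ * x with hd
          have hdE : d ∈ E := E.mul_mem (E.inv_mem hx') hx
          have hc1 : X⁻¹ * x * X ∈ R := by simpa using hRX' x hxR
          have hc2 : X⁻¹ * x' * X ∈ R := by simpa using hRX' x' hxR'
          have h2 : (X⁻¹ * d * X) * d = 1 := by
            have e2 : (X⁻¹ * d * X) * d = (X⁻¹ * x' * X)⁻¹ * ((X⁻¹ * x * X) * x'⁻¹) * x := by
              rw [hd]; group
            rw [e2]
            generalize X⁻¹ * x * X = a at h1 hc1
            generalize X⁻¹ * x' * X = a' at h1 hc2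
            calc a'⁻¹ * (a * x'⁻¹) * x = a'⁻¹ * (x'⁻¹ * a) * x := by
                  rw [hcomm a hc1 _ (R.inv_mem hxR')]
              _ = a'⁻¹ * x'⁻¹ * (a * x) := by group
              _ = a'⁻¹ * x'⁻¹ * (a' * x') := by rw [h1]
              _ = a'⁻¹ * x'⁻¹ * (x' * a') := by rw [hcomm a' hc2 _ hxR']
              _ = 1 := by group
          have h3 : X⁻¹ * d * X = d⁻¹ := eq_inv_of_mul_eq_one_left h2
          have h4 : T⁻¹ * d * T = d := by
            have e3 : T⁻¹ * d * T = X⁻¹ * (X⁻¹ * d * X) * X := by rw [hT]; group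
            rw [e3, h3]
            have e4 : X⁻¹ * d⁻¹ * X = (X⁻¹ * d * X)⁻¹ := by group
            rw [e4, h3, inv_inv]
          have h5 : T * d * T⁻¹ = d⁻¹ := hdE.2
          have h6 : d * d = 1 := by
            rw [hTinv] at h4 h5
            rw [h4] at h5
            nth_rewrite 1 [h5]
            exact inv_mul_cancel d
          have h7 := hodd' d (hRH hdE.1) h6
          rw [hd, inv_mul_eq_one] at h7
          exact h7.symm
        · have e1 : ∀ w ∈ H, (X * w) ^ 3 = (X * w)⁻¹ := by
            intro w hw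
            rw [eq_inv_iff_mul_eq_one, ← pow_succ, hpow w hw]
          rw [e1 x (hRH hx.1), e1 x' (hRH hx'.1), inv_inj] at hxx
          exact mul_left_cancel hxx
      · intro x hx a
        have hxH := hRH hx.1
        have hZ : MonoidHom.FixedPointFree (X * x : MulAut A) := hfpf x hxH
        have hZ4 : (X * x : MulAut A)^[4] = _root_.id := by
          funext b
          rw [← mulAut_pow_apply, hpow x hxH]; rfl
        have := hZ.prod_pow_eq_one hZ4 a
        simp only [mulAut_pow_apply]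
        exact this
    have hy0 : y⁻¹ * (T * y * T⁻¹) ∈ E := by
      refine ⟨R.mul_mem (R.inv_mem hy) (hRT y hy), ?_⟩
      have e : T * (y⁻¹ * (T * y * T⁻¹)) * T⁻¹ = (T * y * T⁻¹)⁻¹ * ((T * T) * y * (T * T)⁻¹) := by group
      rw [e, hT2]; group
    rw [hE, Subgroup.mem_bot, inv_mul_eq_one] at hy0
    apply hyT
    rw [eq_mul_inv_iff_mul_eq] at hy0
    exact hy0.symm

end Cfsg.Agent.Lib.Helper91.FPF4
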