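import Mathlib
import Cfsg.Agent.Lib.Helper1.FPF
import Cfsg.Agent.Lib.Helper91.FPF4b

set_option autoImplicit false

namespace Cfsg.Agent.Lib.Helper91.FPF4

open Cfsg.Agent.Lib.Helper1 Cfsg.Agent.Lib.Helper1.FPF
open MonoidHom (FixedPointFree)

universe u

theorem odd_card_of_fpf4 {G : Type*} [Group G] [Finite G] (φ : G ≃* G) (hφ : FixedPointFree φ)
    (h4 : φ^[4] = _root_.id) : Odd (Nat.card G) := by
  have : Fact (Nat.Prime 2) := ⟨Nat.prime_two⟩
  have h4' : (φ : MulAut G) ^ 4 = 1 := by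
    ext g
    rw [mulAut_pow_apply, h4]; rfl
  have hP : IsPGroup 2 (Subgroup.zpowers (φ : MulAut G)) := by
    rintro ⟨x, hx⟩
    obtain ⟨k, rfl⟩ := Subgroup.mem_zpowers_iff.1 hx
    refine ⟨2, Subtype.ext ?_⟩
    change ((φ : MulAut G) ^ k) ^ (2 ^ 2) = 1
    have e : ((φ : MulAut G) ^ k) ^ (2 ^ 2) = ((φ : MulAut G) ^ 4) ^ k := by
      rw [← zpow_natCast, ← zpow_mul, mul_comm, zpow_mul, zpow_natCast]
      norm_num
    rw [e, h4', one_zpow]
  have h1 := hP.card_modEq_card_fixedPoints G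
  have h2 : MulAction.fixedPoints (Subgroup.zpowers (φ : MulAut G)) G = {1} := by
    ext g
    constructor
    · intro hg
      exact hφ g (hg ⟨φ, Subgroup.mem_zpowers _⟩)
    · rintro rfl x
      exact map_one (x : MulAut G)
  rw [h2] at h1
  simp only [Nat.card_eq_fintype_card, Fintype.card_unique] at h1
  rw [Nat.odd_iff]
  exact h1

theorem commutator_le_centralizer {G : Type*} [Group G] [Finite G] (hG : Group.IsSolvable G) (φ : G ≃* G)
    (hφ : FixedPointFree φ) (h4 : φ^[4] = _root_.id)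
    (V : Subgroup G) [hVn : V.Normal] (hV : V.map (φ : G →* G) = V)
    (hVc : ∀ a ∈ V, ∀ b ∈ V, a * b = b * a) {p : ℕ} (hp : p.Prime) (hVp : ∀ a ∈ V, a ^ p = 1)
    (hmin : ∀ M : Subgroup G, M.Normal → M.map (φ : G →* G) = M → M ≤ V → M = ⊥ ∨ M = V) :
    commutator G ≤ Subgroup.centralizer (V : Set G) := by
  set X : MulAut V := restr φ V hV with hX
  set c : G →* MulAut V := MulAut.conjNormal with hc
  have hXc : ∀ z : G, X * c z = c (φ z) * X := by
    intro z
    ext v
    simp [hX, hc, MulAut.conjNormal_apply]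
  have hconj : ∀ z : G, ∃ u : G, X * c z = c u * X * (c u)⁻¹ := by
    intro z
    obtain ⟨u, hu⟩ := hφ.commutatorMap_surjective (φ z)
    have hu' : (u : G) * (φ u)⁻¹ = φ z := by
      simpa [div_eq_mul_inv] using hu
    refine ⟨u, ?_⟩
    rw [hXc, ← hu', map_mul, mul_assoc, mul_assoc, ← map_inv c (u : G), hXc, map_inv φ]
  have hX4 : X ^ 4 = 1 := by
    ext v
    rw [mulAut_pow_apply, hX, restr_iterate, h4]; rfl
  have hXf : ∀ a : V, X a = a → a = 1 := restr_fpf hφ V hV
  have hker : ∀ z : G, c z = 1 → z ∈ Subgroup.centralizer (V : Set G) := by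
    intro z hz
    rw [Subgroup.mem_centralizer_iff]
    intro v hv
    have h2 := congrArg (fun f : MulAut V => ((f ⟨v, hv⟩ : V) : G)) hz
    simp only [hc, MulAut.conjNormal_apply, MulAut.one_apply] at h2
    rw [mul_inv_eq_iff_eq_mul] at h2
    exact h2.symm
  have hker' : ∀ z : G, z ∈ Subgroup.centralizer (V : Set G) → c z = 1 := by
    intro z hz
    rw [Subgroup.mem_centralizer_iff] at hz
    ext v
    simp only [hc, MulAut.conjNormal_apply, MulAut.one_apply]
    rw [mul_inv_eq_iff_eq_mul]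
    exact (hz v v.2).symm
  have key := lemmaA (A := V) (fun a b => Subtype.ext (hVc a a.2 b b.2)) hp
    (fun a => Subtype.ext (by simpa using hVp a a.2)) X c.range
    (Group.isSolvable_of_surjective c.rangeRestrict_surjective)
    (Odd.of_dvd_nat (odd_card_of_fpf4 φ hφ h4) (Subgroup.card_range_dvd c)) ?_ ?_ ?_ ?_ ?_
  · rw [commutator_def, Subgroup.commutator_le]
    intro g₁ _ g₂ _
    apply hker
    rw [commutatorElement_def, map_mul, map_mul, map_mul, map_inv, map_inv,
      key _ ⟨g₁, rfl⟩ _ ⟨g₂, rfl⟩]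
    group
  · rintro _ ⟨z, rfl⟩
    exact ⟨φ z, by rw [hXc, mul_inv_cancel_right]⟩
  · rintro _ ⟨z, rfl⟩
    obtain ⟨u, hu⟩ := hconj z
    rw [hu, conj_pow, hX4, mul_one, mul_inv_cancel]
  · rintro _ ⟨z, rfl⟩ a ha
    obtain ⟨u, hu⟩ := hconj z
    rw [hu] at ha
    have h1 : X ((c u)⁻¹ a) = (c u)⁻¹ a := by
      have h2 : (c u * X * (c u)⁻¹) a = c u (X ((c u)⁻¹ a)) := rfl
      rw [h2] at ha
      have h3 := congrArg (fun w => (c u)⁻¹ w) ha
      simp only [MulAut.inv_apply_self] at h3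
      exact h3
    have h2 := hXf _ h1
    have h3 := congrArg (c u) h2
    rwa [MulAut.apply_inv_self, map_one] at h3
  · rintro _ ⟨z, rfl⟩ h
    rw [hXc] at h
    have h1 : c (φ z) = c z := mul_right_cancel h
    have hCφ : ∀ n ∈ Subgroup.centralizer (V : Set G), φ n ∈ Subgroup.centralizer (V : Set G) := by
      intro n hn
      rw [Subgroup.mem_centralizer_iff] at hn ⊢
      intro v hv
      have hv' : v ∈ V.map (φ : G →* G) := by rw [hV]; exact hv
      obtain ⟨w, hw, rfl⟩ := hv'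
      change φ w * φ n = φ n * φ w
      rw [← map_mul, ← map_mul, hn w hw]
    have h2 : (φ z)⁻¹ * z ∈ Subgroup.centralizer (V : Set G) := by
      apply hker
      rw [map_mul, map_inv, h1, inv_mul_cancel]
    exact hker' z (Cfsg.Agent.S0032.result φ hφ (Subgroup.centralizer (V : Set G)) hCφ z h2)
  · intro B hB1 hB2
    have hMn : (B.map V.subtype).Normal := by
      constructor
      rintro _ ⟨b, hb, rfl⟩ g
      exact ⟨c g b, hB1 _ ⟨g, rfl⟩ b hb, rfl⟩
    have hMle : (B.map V.subtype).map (φ : G →* G) ≤ B.map V.subtype := by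
      rintro _ ⟨_, ⟨b, hb, rfl⟩, rfl⟩
      exact ⟨X b, hB2 b hb, rfl⟩
    have hMφ : (B.map V.subtype).map (φ : G →* G) = B.map V.subtype := by
      apply Subgroup.eq_of_le_of_card_ge hMle
      rw [Subgroup.card_map_of_injective (f := (φ : G →* G)) φ.injective]
    rcases hmin _ hMn hMφ (Subgroup.map_subtype_le B) with h | h
    · left
      exact (Subgroup.map_eq_bot_iff_of_injective B V.subtype_injective).1 h
    · right
      rw [eq_top_iff]
      intro v _
      have hv : (v : G) ∈ B.map V.subtype := by rw [h]; exact v.2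
      obtain ⟨b, hb, hbv⟩ := hv
      have : b = v := Subtype.ext hbv
      rwa [← this]

theorem main_aux (n : ℕ) :
    ∀ (G : Type u) [Group G] [Finite G] (φ : G ≃* G), Group.IsSolvable G → FixedPointFree φ →
      φ^[4] = _root_.id → Nat.card G = n → Group.IsNilpotent (commutator G) := by
  induction n using Nat.strong_induction_on with
  | _ n ih =>
  intro G _ _ φ hG hφ hφr hn
  subst hn
  by_cases hnt : Nontrivial G
  swap
  · rw [not_nontrivial_iff_subsingleton] at hnt
    infer_instance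
  have ihquot : ∀ (N : Subgroup G) [N.Normal], N.map (φ : G →* G) = N → N ≠ ⊥ →
      Group.IsNilpotent (commutator (G ⧸ N)) :=
    fun N _ hN hne => ih _ (card_quotient_lt_of_ne_bot hne) (G ⧸ N) (quot φ N hN)
      inferInstance (quot_fpf hφ N hN) (quot_iterate_eq_id hφr N hN) rfl
  let S : Set (Subgroup G) := {S | S.Normal ∧ S.map (φ : G →* G) = S ∧ S ≠ ⊥}
  obtain ⟨V, hV⟩ := (Set.toFinite S).exists_minimal
    ⟨⊤, inferInstance, Subgroup.map_top_of_surjective _ φ.surjective, top_ne_bot⟩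
  obtain ⟨hVn, hVφ, hVne⟩ := hV.prop
  have hmin : ∀ M : Subgroup G, M.Normal → M.map (φ : G →* G) = M → M ≤ V → M = ⊥ ∨ M = V := by
    intro M h1 h2 h3
    by_cases hM0 : M = ⊥
    · exact Or.inl hM0
    · exact Or.inr (le_antisymm h3 (hV.le_of_le ⟨h1, h2, hM0⟩ h3))
  have hVsolv : Group.IsSolvable V := inferInstance
  have hQnil := ihquot V hVφ hVne
  have hlt := commutator_lt_of_isSolvable hVsolv hVne
  have hbot : ⁅V, V⁆ = ⊥ := by
    rcases hmin ⁅V, V⁆ inferInstance (by rw [Subgroup.map_commutator, hVφ]) hlt.le with h | h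
    · exact h
    · exact absurd h hlt.ne
  have hcomm : ∀ x ∈ V, ∀ y ∈ V, x * y = y * x := by
    rw [Subgroup.commutator_eq_bot_iff_le_centralizer] at hbot
    intro x hx y hy
    exact ((Subgroup.mem_centralizer_iff.1 (hbot hx)) y hy).symm
  have hcard : Nat.card V ≠ 1 := fun h => hVne (Subgroup.card_eq_one.1 h)
  let p := (Nat.card V).minFac
  have hp : p.Prime := Nat.minFac_prime hcard
  have : Fact p.Prime := ⟨hp⟩
  let Ω : Subgroup G :=
    { carrier := {x | x ∈ V ∧ x ^ p = 1}
      mul_mem' := by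
        rintro a b ⟨ha, ha'⟩ ⟨hb, hb'⟩
        refine ⟨V.mul_mem ha hb, ?_⟩
        rw [(show Commute a b from hcomm a ha b hb).mul_pow, ha', hb', one_mul]
      one_mem' := ⟨V.one_mem, one_pow _⟩
      inv_mem' := by
        rintro a ⟨ha, ha'⟩
        exact ⟨V.inv_mem ha, by rw [inv_pow, ha', inv_one]⟩ }
  have hΩn : Ω.Normal := by
    constructor
    rintro x ⟨hx, hx'⟩ g
    exact ⟨hVn.conj_mem x hx g, by rw [conj_pow, hx', mul_one, mul_inv_cancel]⟩
  have hΩle : Ω ≤ V := fun x hx => hx.1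
  have hΩφ : Ω.map (φ : G →* G) = Ω := by
    apply le_antisymm
    · rintro _ ⟨x, ⟨hx, hx'⟩, rfl⟩
      refine ⟨by rw [← hVφ]; exact Subgroup.mem_map_of_mem _ hx, ?_⟩
      rw [← map_pow, hx', map_one]
    · rintro x ⟨hx, hx'⟩
      rw [← hVφ] at hx
      obtain ⟨y, hy, rfl⟩ := hx
      refine ⟨y, ⟨hy, ?_⟩, rfl⟩
      apply φ.injective
      rw [map_pow, map_one]
      exact hx'
  obtain ⟨x, hx⟩ := exists_prime_orderOf_dvd_card' (G := V) p (Nat.minFac_dvd _)
  have hΩne : Ω ≠ ⊥ := by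
    intro h
    have h1 : (x : G) ∈ Ω := ⟨x.2, by
      rw [← Subgroup.coe_pow, ← hx, pow_orderOf_eq_one, Subgroup.coe_one]⟩
    rw [h, Subgroup.mem_bot] at h1
    have h2 : x = 1 := Subtype.ext h1
    rw [h2, orderOf_one] at hx
    exact hp.one_lt.ne hx
  have hVp : ∀ y ∈ V, y ^ p = 1 := by
    rcases hmin Ω hΩn hΩφ hΩle with h | h
    · exact absurd h hΩne
    · intro y hy
      rw [← h] at hy
      exact hy.2
  have hcen := commutator_le_centralizer hG φ hφ hφr V hVφ hcomm hp hVp hmin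
  -- conclude
  have hmem : ∀ x : commutator G, QuotientGroup.mk' V (x : G) ∈ commutator (G ⧸ V) := by
    intro x
    have h1 : QuotientGroup.mk' V (x : G) ∈ (commutator G).map (QuotientGroup.mk' V) :=
      Subgroup.mem_map_of_mem _ x.2
    have h2 : (commutator G).map (QuotientGroup.mk' V) = commutator (G ⧸ V) := by
      rw [commutator_def, Subgroup.map_commutator,
        Subgroup.map_top_of_surjective _ (QuotientGroup.mk'_surjective V), commutator_def]
    rw [← h2]
    exact h1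
  let f : commutator G →* commutator (G ⧸ V) :=
    ((QuotientGroup.mk' V).comp (commutator G).subtype).codRestrict _ hmem
  apply Subgroup.isNilpotent_of_ker_le_center f
  intro x hx
  rw [MonoidHom.mem_ker] at hx
  have h1 : QuotientGroup.mk' V (x : G) = 1 := congrArg Subtype.val hx
  have h2 : (x : G) ∈ V := by
    rwa [← QuotientGroup.ker_mk' V, MonoidHom.mem_ker]
  rw [Subgroup.mem_center_iff]
  intro y
  apply Subtype.ext
  have h3 := hcen y.2
  rw [Subgroup.mem_centralizer_iff] at h3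
  exact (h3 x h2).symm

end Cfsg.Agent.Lib.Helper91.FPF4
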