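import Cfsg.Agent.Lib.Helper91.BendA4
import Cfsg.Agent.Lib.Helper19.ZasHalf
import Cfsg.Agent.Lib.Helper5.LinearCard
import Cfsg.Agent.Lib.Helper1.Tools

set_option autoImplicit false

/-! # S3043 farm, piece A2 -/

namespace Cfsg.Agent.Lib.Helper91.Bend

open Cfsg.Agent.Lib.Helper75.Bend Cfsg.Agent.Lib.Helper75.BSW Cfsg.Agent.Lib.Helper19 MulAction

variable {G : Type*} [Group G] [Finite G] {M : Subgroup G} {z : G}

theorem card_N' (h : TIC M z) : Nat.card ↥(Subgroup.normalizer (M : Set G)) =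
    Nat.card M *
      Nat.card ↥(Subgroup.normalizer (M : Set G) ⊓ Subgroup.centralizer ({z} : Set G)) := by
  have h1 : Subgroup.normalizer (M : Set G) ⊓ Subgroup.centralizer ({z} : Set G) ⊔ M =
      Subgroup.normalizer (M : Set G) := by
    apply le_antisymm
    · exact sup_le inf_le_left Subgroup.le_normalizer
    · intro n hn
      obtain ⟨m, hm, c, hcN, hcz, rfl⟩ := h.fac n hn
      exact Subgroup.mul_mem _ (Subgroup.mem_sup_right hm)
        (Subgroup.mem_sup_left (mem_D_iff.2 ⟨hcN, hcz⟩))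
  have h2 : Disjoint (Subgroup.normalizer (M : Set G) ⊓ Subgroup.centralizer ({z} : Set G)) M := by
    rw [Subgroup.disjoint_def]
    intro x hx hxM
    exact h.eq_one_of_comm hxM h.hz (mem_D_iff.1 hx).2.symm
  have h3 := Cfsg.Agent.Lib.Helper1.card_sup_of_disjoint (H := Subgroup.normalizer (M : Set G) ⊓
    Subgroup.centralizer ({z} : Set G)) (K := M) inf_le_left h2
  rw [h1] at h3
  rw [h3, mul_comm]

omit [Finite G] in
theorem even_card_D (h : TIC M z) :
    Even (Nat.card ↥(Subgroup.normalizer (M : Set G) ⊓ Subgroup.centralizer ({z} : Set G))) := by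
  have hz : z ∈ Subgroup.normalizer (M : Set G) ⊓ Subgroup.centralizer ({z} : Set G) :=
    mem_D_iff.2 ⟨h.zN, rfl⟩
  have h1 := orderOf_dvd_natCard (⟨z, hz⟩ : ↥(Subgroup.normalizer (M : Set G) ⊓
    Subgroup.centralizer ({z} : Set G)))
  rw [Subgroup.orderOf_mk, h.hz] at h1
  exact (even_iff_two_dvd).2 h1

theorem psl_branch (h : TIS M z) {u : G} (huz : u * z = z * u)
    (huN : u ∉ Subgroup.normalizer (M : Set G))
    (zd : ZData G (G ⧸ Subgroup.normalizer (M : Set G)) (QuotientGroup.mk 1) (QuotientGroup.mk u) M)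
    (hst : stabilizer G (QuotientGroup.mk 1 : G ⧸ Subgroup.normalizer (M : Set G)) ⊓
      stabilizer G (QuotientGroup.mk u : G ⧸ Subgroup.normalizer (M : Set G)) =
        Subgroup.normalizer (M : Set G) ⊓ Subgroup.centralizer ({z} : Set G))
    (hhalf : 2 * Nat.card ↥(Subgroup.normalizer (M : Set G) ⊓ Subgroup.centralizer ({z} : Set G))
      ≤ Nat.card M - 1) :
    ∃ (F : Type) (_ : Field F) (_ : Fintype F), Fintype.card F = Nat.card M ∧
      Fintype.card F % 4 = 1 ∧
      2 * Nat.card ↥(Subgroup.normalizer (M : Set G) ⊓ Subgroup.centralizer ({z} : Set G)) =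
        Nat.card M - 1 ∧
      Nonempty (G ≃* Matrix.ProjectiveSpecialLinearGroup (Fin 2) F) := by
  classical
  have := Fintype.ofFinite (G ⧸ Subgroup.normalizer (M : Set G))
  have hΩ := zd.card_K
  rw [Nat.card_eq_fintype_card] at hΩ
  have hev := even_card_D h.tic
  obtain ⟨F, _, _, hF, -, ⟨e⟩⟩ := psl_of_half zd (by rw [hst]; exact hev)
    (by rw [hst, hΩ]; omega)
  have hq : Fintype.card F = Nat.card M := by omega
  have hodd := h.tic.odd_card
  have hG : Nat.card G = (Nat.card M + 1) * (Nat.card M *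
      Nat.card ↥(Subgroup.normalizer (M : Set G) ⊓ Subgroup.centralizer ({z} : Set G))) := by
    rw [Subgroup.card_eq_card_quotient_mul_card_subgroup (Subgroup.normalizer (M : Set G)),
      Nat.card_eq_fintype_card, hΩ, card_N' h.tic]
  have hP := Cfsg.Agent.Lib.Helper5.card_PSL2 (F := F)
  rw [← Nat.card_congr e.toEquiv, hG, hq] at hP
  set μ := Nat.card M with hμ
  set d := Nat.card ↥(Subgroup.normalizer (M : Set G) ⊓ Subgroup.centralizer ({z} : Set G)) with hd
  obtain ⟨k, hk⟩ := hodd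
  have hg : Nat.gcd (μ - 1) 2 = 2 := by
    have : μ - 1 = 2 * k := by omega
    rw [this]
    simp
  rw [hg] at hP
  have h2d : 2 * d = μ - 1 := by
    have h1 : μ ^ 2 - 1 = (μ - 1) * (μ + 1) := by
      have : μ = (μ - 1) + 1 := by omega
      generalize μ - 1 = a at this
      rw [this]
      have : (a + 1) ^ 2 = a * (a + 1 + 1) + 1 := by ring
      rw [this]
      simp
    rw [h1] at hP
    have h3 : (μ * (μ + 1)) * (2 * d) = (μ * (μ + 1)) * (μ - 1) := by
      calc (μ * (μ + 1)) * (2 * d) = 2 * ((μ + 1) * (μ * d)) := by ring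
        _ = μ * ((μ - 1) * (μ + 1)) := hP
        _ = _ := by ring
    exact Nat.eq_of_mul_eq_mul_left (Nat.mul_pos (by omega) (by omega)) h3
  refine ⟨F, inferInstance, inferInstance, hq, ?_, h2d, ⟨e⟩⟩
  rw [hq]
  obtain ⟨j, hj⟩ := hev
  omega

end Cfsg.Agent.Lib.Helper91.Bend
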