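import Cfsg.Agent.Lib.Helper91.BendA4
import Cfsg.Agent.Lib.Helper19.S3PGL

set_option autoImplicit false

/-! # S3043 farm, piece A3 -/

namespace Cfsg.Agent.Lib.Helper91.Bend

open Cfsg.Agent.Lib.Helper75 Cfsg.Agent.Lib.Helper75.Bend Cfsg.Agent.Lib.Helper75.BSW Cfsg.Agent.Lib.Helper19 MulAction

/-- a two point stabiliser of order `|Ω| - 2` is transitive on the remaining points. -/
theorem htrans_of_card {G Ω : Type*} [Group G] [MulAction G Ω] [Finite G] [Finite Ω] {a b c : Ω}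
    {K : Subgroup G} (zd : ZData G Ω a b K) (hca : c ≠ a) (hcb : c ≠ b)
    (hcard : Nat.card ↥(stabilizer G a ⊓ stabilizer G b) + 2 = Nat.card Ω) :
    ∀ d : Ω, d ≠ a → d ≠ b → ∃ h : G, h • a = a ∧ h • b = b ∧ h • c = d := by
  classical
  have := Fintype.ofFinite Ω
  have := Fintype.ofFinite ↥(stabilizer G a ⊓ stabilizer G b)
  let f : ↥(stabilizer G a ⊓ stabilizer G b) → Ω := fun h => (h : G) • c
  have hf : Function.Injective f := by
    intro h h' hh
    have h1 : ((h' : G)⁻¹ * (h : G)) • c = c := by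
      rw [mul_smul]
      show (h' : G)⁻¹ • f h = c
      rw [hh]
      exact inv_smul_smul _ _
    have h2 : (h' : G)⁻¹ * (h : G) ∈ stabilizer G a ⊓ stabilizer G b :=
      Subgroup.mul_mem _ (Subgroup.inv_mem _ h'.2) h.2
    have h3 := zd.base.three _ a b c zd.hab hcb.symm hca.symm h2.1 h2.2 h1
    apply Subtype.ext
    exact (inv_mul_eq_one.1 h3).symm
  have hsub : Finset.univ.image f ⊆ (Finset.univ.erase a).erase b := by
    intro d hd
    obtain ⟨h, -, rfl⟩ := Finset.mem_image.1 hd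
    have ha : (h : G) • a = a := h.2.1
    have hb : (h : G) • b = b := h.2.2
    rw [Finset.mem_erase, Finset.mem_erase]
    refine ⟨?_, ?_, Finset.mem_univ _⟩
    · intro e
      apply hcb
      have : (h : G) • c = (h : G) • b := by rw [hb]; exact e
      exact smul_left_cancel _ this
    · intro e
      apply hca
      have : (h : G) • c = (h : G) • a := by rw [ha]; exact e
      exact smul_left_cancel _ this
  have hc1 : ((Finset.univ.erase a).erase b).card ≤ (Finset.univ.image f).card := by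
    rw [Finset.card_image_of_injective _ hf, Finset.card_erase_of_mem
      (by rw [Finset.mem_erase]; exact ⟨zd.hab.symm, Finset.mem_univ _⟩),
      Finset.card_erase_of_mem (Finset.mem_univ _), Finset.card_univ, Finset.card_univ]
    rw [Nat.card_eq_fintype_card, Nat.card_eq_fintype_card] at hcard
    omega
  have heq := Finset.eq_of_subset_of_card_le hsub hc1
  intro d hda hdb
  have hd : d ∈ Finset.univ.image f := by
    rw [heq, Finset.mem_erase, Finset.mem_erase]
    exact ⟨hdb, hda, Finset.mem_univ _⟩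
  obtain ⟨h, -, rfl⟩ := Finset.mem_image.1 hd
  exact ⟨h, h.2.1, h.2.2, rfl⟩

theorem three_trans_of_htrans {G Ω : Type*} [Group G] [MulAction G Ω] {a b c : Ω}
    {K : Subgroup G} (zd : ZData G Ω a b K)
    (Htrans : ∀ d : Ω, d ≠ a → d ≠ b → ∃ h : G, h • a = a ∧ h • b = b ∧ h • c = d) :
    ∀ x₁ x₂ x₃ y₁ y₂ y₃ : Ω, x₁ ≠ x₂ → x₁ ≠ x₃ → x₂ ≠ x₃ → y₁ ≠ y₂ → y₁ ≠ y₃ → y₂ ≠ y₃ →
      ∃ g : G, g • x₁ = y₁ ∧ g • x₂ = y₂ ∧ g • x₃ = y₃ := by
  have key : ∀ y₁ y₂ y₃ : Ω, y₁ ≠ y₂ → y₁ ≠ y₃ → y₂ ≠ y₃ →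
      ∃ g : G, g • a = y₁ ∧ g • b = y₂ ∧ g • c = y₃ := by
    intro y₁ y₂ y₃ h12 h13 h23
    obtain ⟨g₀, h1, h2⟩ := zd.base.two zd.hab h12
    obtain ⟨h, ha, hb, hc⟩ := Htrans (g₀⁻¹ • y₃)
      (by
        intro e
        apply h13
        rw [← h1, ← e, smul_inv_smul])
      (by
        intro e
        apply h23
        rw [← h2, ← e, smul_inv_smul])
    refine ⟨g₀ * h, ?_, ?_, ?_⟩
    · rw [mul_smul, ha, h1]
    · rw [mul_smul, hb, h2]
    · rw [mul_smul, hc, smul_inv_smul]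
  intro x₁ x₂ x₃ y₁ y₂ y₃ hx12 hx13 hx23 hy12 hy13 hy23
  obtain ⟨g, g1, g2, g3⟩ := key x₁ x₂ x₃ hx12 hx13 hx23
  obtain ⟨k, k1, k2, k3⟩ := key y₁ y₂ y₃ hy12 hy13 hy23
  refine ⟨k * g⁻¹, ?_, ?_, ?_⟩
  · rw [mul_smul, ← g1, inv_smul_smul, k1]
  · rw [mul_smul, ← g2, inv_smul_smul, k2]
  · rw [mul_smul, ← g3, inv_smul_smul, k3]

variable {G : Type*} [Group G] [Finite G] {M : Subgroup G} {z : G}

theorem pgl_branch (h : TIS M z) {u : G} (huz : u * z = z * u)
    (huN : u ∉ Subgroup.normalizer (M : Set G))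
    (zd : ZData G (G ⧸ Subgroup.normalizer (M : Set G)) (QuotientGroup.mk 1) (QuotientGroup.mk u) M)
    (hst : stabilizer G (QuotientGroup.mk 1 : G ⧸ Subgroup.normalizer (M : Set G)) ⊓
      stabilizer G (QuotientGroup.mk u : G ⧸ Subgroup.normalizer (M : Set G)) =
        Subgroup.normalizer (M : Set G) ⊓ Subgroup.centralizer ({z} : Set G))
    (hfull : Nat.card ↥(Subgroup.normalizer (M : Set G) ⊓ Subgroup.centralizer ({z} : Set G)) =
      Nat.card M - 1) :
    ∃ (F : Type) (_ : Field F) (_ : Fintype F), Fintype.card F = Nat.card M ∧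
      Nonempty (G ≃* (GL (Fin 2) F ⧸ Subgroup.center (GL (Fin 2) F))) := by
  classical
  set a : G ⧸ Subgroup.normalizer (M : Set G) := QuotientGroup.mk 1 with ha
  set b : G ⧸ Subgroup.normalizer (M : Set G) := QuotientGroup.mk u with hb
  have hM1 : 1 < Nat.card M := by
    rw [Subgroup.one_lt_card_iff_ne_bot]; exact h.tic.ne
  have hΩ := zd.card_K
  obtain ⟨x, hx, hx1⟩ := h.tic.exists_ne
  have hca : x • b ≠ a := zd.smul_ne (zd.Kfix x hx) zd.hab.symm
  have hcb : x • b ≠ b := fun e => hx1 (zd.Kfree x hx b zd.hab.symm e)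
  have Htrans := htrans_of_card zd hca hcb (by rw [hst, hfull, hΩ]; omega)
  have h3e := three_trans_of_htrans zd Htrans
  obtain ⟨u', hua, hub, huc⟩ := h3e a b (x • b) b a (x • b) zd.hab hca.symm hcb.symm zd.hab.symm
    hcb.symm hca.symm
  have hu2 := h.invol_of_comm huz huN
  have hui : u⁻¹ = u := inv_of_orderOf_two hu2
  have hu_a : u • a = b := by
    show (QuotientGroup.mk (u * 1) : G ⧸ Subgroup.normalizer (M : Set G)) = QuotientGroup.mk u
    rw [mul_one]
  have hu_b : u • b = a := by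
    rw [← hu_a, ← mul_smul, mul_self_of_orderOf_two hu2, one_smul]
  have hzH : z ∈ stabilizer G a ⊓ stabilizer G b := by
    rw [hst]; exact mem_D_iff.2 ⟨h.tic.zN, rfl⟩
  have hn : u * u' ∈ stabilizer G a ⊓ stabilizer G b := by
    constructor
    · show (u * u') • a = a
      rw [mul_smul, hua, hu_b]
    · show (u * u') • b = b
      rw [mul_smul, hub, hu_a]
  rw [hst] at hn
  obtain ⟨-, hnz⟩ := mem_D_iff.1 hn
  have hu'z : u' * z = z * u' := by
    have e1 : u' = u * (u * u') := by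
      rw [← mul_assoc, mul_self_of_orderOf_two hu2, one_mul]
    rw [e1, mul_assoc, hnz, ← mul_assoc, huz, mul_assoc]
  have hu'N : u' ∉ Subgroup.normalizer (M : Set G) := by
    intro hmem
    have h1 : u' ∈ stabilizer G a := by
      rw [ha, MulAction.stabilizer_quotient]; exact hmem
    have h2 : u' • a = a := h1
    rw [hua] at h2
    exact zd.hab h2.symm
  have sd : S3Data G (G ⧸ Subgroup.normalizer (M : Set G)) a b (x • b) M z u' :=
    ⟨zd, hca, hcb, Htrans, hzH.1, hzH.2, by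
      intro e
      have := h.tic.hz
      rw [e, orderOf_one] at this
      omega, h.tic.z_mul, hua, hub, huc⟩
  have : FaithfulSMul G (G ⧸ Subgroup.normalizer (M : Set G)) := ⟨fun {g g'} hh => by
    have : g'⁻¹ * g = 1 := zd.base.faithful _ (fun c => by rw [mul_smul, hh c, inv_smul_smul])
    exact (inv_mul_eq_one.mp this).symm⟩
  obtain ⟨F, i1, i2, hc, hiso⟩ := sd.pgl_of_inverts (by
    intro d hd
    rw [hst] at hd
    obtain ⟨hdN, hdz⟩ := mem_D_iff.1 hd
    exact h.inverts_of_comm hu'z hu'N hdN hdz) h3e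
  exact ⟨F, i1, i2, hc, hiso⟩

end Cfsg.Agent.Lib.Helper91.Bend
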