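import Cfsg.Agent.Lib.Helper75.TIC2
import Cfsg.Agent.Lib.Helper75.BSW12

set_option autoImplicit false

/-! # S3043 farm, piece A4 -/

namespace Cfsg.Agent.Lib.Helper91.Bend

open Cfsg.Agent.Lib.Helper75.Bend Cfsg.Agent.Lib.Helper75.BSW

variable {G : Type*} [Group G] [Finite G] {M : Subgroup G} {z : G}

omit [Finite G] in
theorem mem_D_iff {d : G} : d ∈ Subgroup.normalizer (M : Set G) ⊓ Subgroup.centralizer ({z} : Set G)
    ↔ d ∈ Subgroup.normalizer (M : Set G) ∧ d * z = z * d := by
  rw [Subgroup.mem_inf, Subgroup.mem_centralizer_singleton_iff]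

theorem D_free (h : TIS M z) {u : G} (huz : u * z = z * u)
    (huN : u ∉ Subgroup.normalizer (M : Set G)) {d x : G}
    (hd : d ∈ Subgroup.normalizer (M : Set G) ⊓ Subgroup.centralizer ({z} : Set G))
    (hx : x ∈ M) (hx1 : x ≠ 1) (hc : d * x = x * d) : d = 1 := by
  obtain ⟨hdN, hdz⟩ := mem_D_iff.1 hd
  have hu := h.invol_of_comm huz huN
  have h1 := h.inverts_of_comm huz huN hdN hdz
  exact h.free hu huN hdN (by rw [h1]; exact Subgroup.inv_mem _ hdN) hx hx1 hc

theorem card_D_dvd (h : TIS M z) {u : G} (huz : u * z = z * u)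
    (huN : u ∉ Subgroup.normalizer (M : Set G)) :
    Nat.card ↥(Subgroup.normalizer (M : Set G) ⊓ Subgroup.centralizer ({z} : Set G)) ∣
      Nat.card M - 1 := by
  apply card_dvd_sub_one_of_free _ _ inf_le_left
  intro k hk d hd hd1 e
  exact D_free h huz huN hk hd hd1 (mul_inv_eq_iff_eq_mul.1 e)

theorem pow_eq_one_of_half (h : TIS M z) {u : G} (huz : u * z = z * u)
    (huN : u ∉ Subgroup.normalizer (M : Set G)) (p f : ℕ) (hp : p.Prime)
    (hcard : Nat.card M = p ^ f)
    (hhalf : Nat.card M - 1 ≤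
      2 * Nat.card ↥(Subgroup.normalizer (M : Set G) ⊓ Subgroup.centralizer ({z} : Set G))) :
    ∀ x ∈ M, x ^ p = 1 := by
  have := Fact.mk hp
  let Mp : Subgroup G :=
    { carrier := {x | x ∈ M ∧ x ^ p = 1}
      one_mem' := ⟨M.one_mem, one_pow _⟩
      mul_mem' := by
        rintro a b ⟨ha, ha1⟩ ⟨hb, hb1⟩
        refine ⟨M.mul_mem ha hb, ?_⟩
        have hc : Commute a b := h.tic.comm a ha b hb
        rw [hc.mul_pow, ha1, hb1, one_mul]
      inv_mem' := by
        rintro a ⟨ha, ha1⟩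
        exact ⟨M.inv_mem ha, by rw [inv_pow, ha1, inv_one]⟩ }
  have hMpM : Mp ≤ M := fun x hx => hx.1
  have hnorm : Subgroup.normalizer (M : Set G) ⊓ Subgroup.centralizer ({z} : Set G) ≤
      Subgroup.normalizer (Mp : Set G) := by
    intro k hk
    have hkN := (mem_D_iff.1 hk).1
    apply mem_normalizer_of
    · rintro y ⟨hy, hy1⟩
      exact ⟨conj_mem hkN hy, by rw [conj_pow, hy1]; group⟩
    · rintro y ⟨hy, hy1⟩
      refine ⟨conj_mem' hkN hy, ?_⟩
      have := conj_pow (a := k⁻¹) (b := y) (i := p)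
      rw [inv_inv] at this
      rw [this, hy1]; group
  have hdvd : Nat.card ↥(Subgroup.normalizer (M : Set G) ⊓ Subgroup.centralizer ({z} : Set G)) ∣
      Nat.card Mp - 1 := by
    apply card_dvd_sub_one_of_free _ _ hnorm
    intro k hk d hd hd1 e
    exact D_free h huz huN hk hd.1 hd1 (mul_inv_eq_iff_eq_mul.1 e)
  have hM1 : 1 < Nat.card M := by
    rw [Subgroup.one_lt_card_iff_ne_bot]; exact h.tic.ne
  have hpM : p ∣ Nat.card M := by
    rw [hcard]
    apply dvd_pow_self
    rintro rfl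
    rw [hcard, pow_zero] at hM1
    omega
  obtain ⟨x, hx⟩ := exists_prime_orderOf_dvd_card' p hpM
  have hMp1 : 1 < Nat.card Mp := by
    rw [Subgroup.one_lt_card_iff_ne_bot]
    intro hbot
    have h1 : (x : G) ∈ Mp := by
      refine ⟨x.2, ?_⟩
      have := pow_orderOf_eq_one x
      rw [hx] at this
      have h2 := congrArg Subtype.val this
      simpa using h2
    rw [hbot, Subgroup.mem_bot] at h1
    have h2 : x = 1 := Subtype.ext h1
    rw [h2, orderOf_one] at hx
    exact hp.one_lt.ne hx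
  have hle := Nat.le_of_dvd (by omega) hdvd
  obtain ⟨k, hk⟩ := Subgroup.card_dvd_of_le hMpM
  have hodd := h.tic.odd_card
  by_cases hk1 : k = 1
  · have heq : Mp = M := by
      apply Subgroup.eq_of_le_of_card_ge hMpM
      rw [hk, hk1, mul_one]
    intro y hy
    rw [← heq] at hy
    exact hy.2
  · exfalso
    have hk3 : 3 ≤ k := by
      have hkodd : Odd k := by
        rw [hk] at hodd
        exact (Nat.odd_mul.1 hodd).2
      obtain ⟨j, hj⟩ := hkodd
      omega
    have h3 : 3 * Nat.card Mp ≤ Nat.card M := by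
      rw [hk, mul_comm]
      exact Nat.mul_le_mul_left _ hk3
    omega

end Cfsg.Agent.Lib.Helper91.Bend
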