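import Cfsg.Agent.S1230
import Cfsg.Agent.S0799
import Cfsg.Agent.Lib.Helper41.Dickson.Cards
import Cfsg.Agent.Lib.Helper75.BSW12

set_option autoImplicit false

/-! # S3043 farm, piece B1 -/

namespace Cfsg.Agent.Lib.Helper91.Bend

open Cfsg.Agent.Lib.Helper75.BSW

theorem eq_one_of_sq_of_odd {X : Type*} [Group X] {K : Subgroup X} (hodd : Odd (Nat.card K))
    {k : X} (hk : k ∈ K) (h2 : k * k = 1) : k = 1 := by
  have h1 : orderOf k ∣ 2 := orderOf_dvd_of_pow_eq_one (by rw [sq]; exact h2)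
  have h3 : orderOf k ∣ Nat.card K := by
    have := orderOf_dvd_natCard (⟨k, hk⟩ : K)
    rwa [Subgroup.orderOf_mk] at this
  rcases (Nat.dvd_prime Nat.prime_two).1 h1 with e | e
  · exact orderOf_eq_one_iff.1 e
  · rw [e] at h3
    exact absurd hodd (by rw [Nat.not_odd_iff_even]; exact even_iff_two_dvd.2 h3)

theorem comm_of_sq {X : Type*} [Group X] {a b : X} (h1 : a * a = 1) (h2 : b * b = 1)
    (h3 : (a * b) * (a * b) = 1) : a * b = b * a := by
  calc a * b = a * ((a * b) * (a * b)) * b := by rw [h3, mul_one]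
    _ = (a * a) * (b * a) * (b * b) := by group
    _ = b * a := by rw [h1, h2, one_mul, mul_one]

theorem key_bound {X : Type*} [Group X] [Finite X]
    (HX : ∀ t c : X, orderOf t = 2 → c * t = t * c → c * c = 1) (P K : Subgroup X)
    (hP2 : 2 ∣ Nat.card P) (hK : K ≤ Subgroup.normalizer (P : Set X)) (hodd : Odd (Nat.card K)) :
    Nat.card K + 1 ≤ Nat.card P := by
  have : Fact (Nat.Prime 2) := ⟨Nat.prime_two⟩
  obtain ⟨t, ht⟩ := exists_prime_orderOf_dvd_card' 2 hP2
  have ht' : orderOf (t : X) = 2 := by rw [Subgroup.orderOf_coe]; exact ht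
  let f : K → {n : X // n ∈ P ∧ n ≠ 1} := fun k =>
    ⟨k.1 * t.1 * k.1⁻¹, (Subgroup.mem_normalizer_iff.1 (hK k.2) t.1).1 t.2, by
      intro e
      have h1 : (t : X) = 1 := by
        have h2 : (t : X) = k.1⁻¹ * (k.1 * t.1 * k.1⁻¹) * k.1 := by group
        rw [h2, e]; group
      rw [h1, orderOf_one] at ht'
      omega⟩
  have hf : Function.Injective f := by
    intro k k' hkk
    have h1 : k.1 * t.1 * k.1⁻¹ = k'.1 * t.1 * k'.1⁻¹ := congrArg Subtype.val hkk
    have h2 : (k'.1⁻¹ * k.1) * t.1 = t.1 * (k'.1⁻¹ * k.1) := by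
      calc (k'.1⁻¹ * k.1) * t.1 = k'.1⁻¹ * (k.1 * t.1 * k.1⁻¹) * k.1 := by group
        _ = k'.1⁻¹ * (k'.1 * t.1 * k'.1⁻¹) * k.1 := by rw [h1]
        _ = _ := by group
    have h3 := HX _ _ ht' h2
    have h4 := eq_one_of_sq_of_odd hodd (K.mul_mem (K.inv_mem k'.2) k.2) h3
    exact Subtype.ext (inv_mul_eq_one.1 h4).symm
  have h5 := Nat.card_le_card_of_injective f hf
  rw [card_ne_one_sub] at h5
  have : 0 < Nat.card P := Nat.card_pos
  omega

theorem even_mul_sq_sub_one (κ : ℕ) : Even (κ * (κ ^ 2 - 1)) := by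
  rcases Nat.even_or_odd κ with h | h
  · exact h.mul_right _
  · apply Even.mul_left
    obtain ⟨j, rfl⟩ := h
    have : (2 * j + 1) ^ 2 - 1 = 2 * (2 * j * j + 2 * j) := by
      have : (2 * j + 1) ^ 2 = 2 * (2 * j * j + 2 * j) + 1 := by ring
      rw [this, Nat.add_sub_cancel]
    rw [this]
    exact even_two_mul _

theorem even_of_gcd_mul {κ N : ℕ} (h : Nat.gcd 2 (κ - 1) * N = κ * (κ ^ 2 - 1)) (hκ : 1 ≤ κ) :
    Even N := by
  rcases Nat.even_or_odd κ with he | ho
  · have h1 : Nat.gcd 2 (κ - 1) = 1 := by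
      obtain ⟨j, hj⟩ := he
      have h2 : κ - 1 = 2 * (j - 1) + 1 := by omega
      rw [h2]
      simp
    rw [h1, one_mul] at h
    rw [h]
    exact even_mul_sq_sub_one κ
  · obtain ⟨j, rfl⟩ := ho
    have h1 : Nat.gcd 2 (2 * j + 1 - 1) = 2 := by simp
    have h2 : (2 * j + 1) ^ 2 - 1 = 4 * (j * (j + 1)) := by
      have : (2 * j + 1) ^ 2 = 4 * (j * (j + 1)) + 1 := by ring
      rw [this, Nat.add_sub_cancel]
    rw [h1, h2] at h
    have h3 : N = 2 * ((2 * j + 1) * (j * (j + 1))) := by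
      have : 2 * N = 2 * (2 * ((2 * j + 1) * (j * (j + 1)))) := by rw [h]; ring
      exact Nat.eq_of_mul_eq_mul_left (by norm_num) this
    rw [h3]
    exact even_two_mul _

theorem caseB1 {G : Type*} [Group G] [Finite G] (z : G) (hz : orderOf z = 2)
    (hC : ∀ c : G, c * z = z * c → c * c = 1) (hconj : ∀ y : G, orderOf y = 2 → IsConj z y)
    (M : Subgroup G) (hMc : ∀ x ∈ M, ∀ y ∈ M, x * y = y * x)
    (hcard : Nat.card M = Nat.card ↥(Subgroup.centralizer ({z} : Set G)) + 1)
    (h2 : 2 < Nat.card ↥(Subgroup.centralizer ({z} : Set G))) :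
    ∃ (F : Type) (_ : Field F) (_ : Fintype F) (e : ℕ), 1 < e ∧ Fintype.card F = 2 ^ e ∧
      IsCyclic ↥M ∧ Nat.card M = 2 ^ e + 1 ∧
      Nonempty (G ≃* Matrix.ProjectiveSpecialLinearGroup (Fin 2) F) := by
  classical
  have : Fact (Nat.Prime 2) := ⟨Nat.prime_two⟩
  have HG : ∀ t c : G, orderOf t = 2 → c * t = t * c → c * c = 1 := by
    intro t c ht hct
    obtain ⟨g, hg⟩ := isConj_iff.1 (hconj t ht)
    have h1 : (g⁻¹ * c * g) * z = z * (g⁻¹ * c * g) := by
      calc (g⁻¹ * c * g) * z = g⁻¹ * (c * (g * z * g⁻¹)) * g := by group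
        _ = g⁻¹ * ((g * z * g⁻¹) * c) * g := by rw [hg, hct]
        _ = _ := by group
    have h3 := hC _ h1
    calc c * c = g * ((g⁻¹ * c * g) * (g⁻¹ * c * g)) * g⁻¹ := by group
      _ = 1 := by rw [h3]; group
  set C := Subgroup.centralizer ({z} : Set G) with hCdef
  have hmemC : ∀ c, c ∈ C ↔ c * z = z * c := fun c => Subgroup.mem_centralizer_singleton_iff
  have hzz : z * z = 1 := hC z rfl
  have hCp : IsPGroup 2 C := by
    intro x
    refine ⟨1, Subtype.ext ?_⟩
    have := hC x.1 ((hmemC _).1 x.2)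
    simpa [pow_two] using this
  obtain ⟨T, hT⟩ := hCp.exists_le_sylow
  have hzT : z ∈ (T : Subgroup G) := hT ((hmemC z).2 rfl)
  have hTC : (T : Subgroup G) = C := by
    apply le_antisymm _ hT
    have hnt : Nontrivial (T : Subgroup G) := by
      refine ⟨⟨⟨z, hzT⟩, 1, ?_⟩⟩
      intro e
      have h1 : z = 1 := congrArg Subtype.val e
      rw [h1, orderOf_one] at hz
      omega
    have hcn := T.2.center_nontrivial
    have hcp : IsPGroup 2 (Subgroup.center (T : Subgroup G)) := T.2.to_subgroup _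
    have h2c : 2 ∣ Nat.card (Subgroup.center (T : Subgroup G)) := by
      rcases hcp.card_eq_or_dvd with h | h
      · have := Finite.one_lt_card (α := Subgroup.center (T : Subgroup G))
        omega
      · exact h
    obtain ⟨t, ht⟩ := exists_prime_orderOf_dvd_card' 2 h2c
    have ht' : orderOf ((t : (T : Subgroup G)) : G) = 2 := by
      rw [Subgroup.orderOf_coe, Subgroup.orderOf_coe]; exact ht
    have hcomm : ∀ x ∈ (T : Subgroup G), x * ((t : (T : Subgroup G)) : G) =
        ((t : (T : Subgroup G)) : G) * x := by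
      intro x hx
      have := (Subgroup.mem_center_iff.1 t.2) ⟨x, hx⟩
      exact congrArg Subtype.val this
    intro x hx
    rw [hmemC]
    exact comm_of_sq (HG _ _ ht' (hcomm x hx)) hzz
      (HG _ _ ht' (hcomm _ ((T : Subgroup G).mul_mem hx hzT)))
  have hcardT : Nat.card (T : Subgroup G) = Nat.card C := by rw [hTC]
  obtain ⟨e, he⟩ := hCp.exists_card_eq
  have he1 : 1 < e := by
    by_contra hlt
    have : e = 0 ∨ e = 1 := by omega
    rcases this with rfl | rfl
    · rw [pow_zero] at he; omega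
    · rw [pow_one] at he; omega
  have hevenC : Even (Nat.card C) := by
    rw [he]; exact (even_two).pow_of_ne_zero (by omega)
  have hoddM : Odd (Nat.card M) := by rw [hcard]; exact hevenC.add_one
  have hnc : ¬ IsCyclic (T : Subgroup G) := by
    intro hcyc
    obtain ⟨g, hg⟩ := hcyc.exists_generator
    have h1 : orderOf g = Nat.card (T : Subgroup G) := orderOf_eq_card_of_forall_mem_zpowers hg
    have h3 : g ^ 2 = 1 := by
      apply Subtype.ext
      have h4 : (g : G) ∈ C := by rw [← hTC]; exact g.2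
      have := hC g.1 ((hmemC _).1 h4)
      simpa [pow_two] using this
    have h4 := orderOf_le_of_pow_eq_one (by norm_num) h3
    omega
  have hnn : ¬ (T : Subgroup G).Normal := by
    intro hn
    have h1 := key_bound HG (T : Subgroup G) M (by rw [hcardT]; exact hevenC.two_dvd)
      (by rw [Subgroup.normalizer_eq_top]; exact le_top) hoddM
    omega
  obtain ⟨F, iF, iF', hF, ⟨φ⟩⟩ := Cfsg.Agent.S1230.result T hnc hnn (by
    intro t ht
    have hsq : ∀ c ∈ Subgroup.centralizer ({t} : Set G), c * c = 1 := fun c hc =>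
      HG t c ht (Subgroup.mem_centralizer_singleton_iff.1 hc)
    refine ⟨⟨⟨fun a b => Subtype.ext ?_⟩⟩, fun c hc => by rw [sq]; exact hsq c hc⟩
    exact comm_of_sq (hsq _ a.2) (hsq _ b.2) (hsq _ (Subgroup.mul_mem _ a.2 b.2)))
  have hF2 : Fintype.card F = 2 ^ e := by rw [hF, ← he]; exact hcardT
  refine ⟨F, iF, iF', e, he1, hF2, ?_, by rw [hcard, he], ⟨φ⟩⟩
  have h20 : (2 : F) = 0 := by
    have h1 : ((Fintype.card F : ℕ) : F) = 0 := Nat.cast_card_eq_zero F
    rw [hF2] at h1
    push_cast at h1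
    exact pow_eq_zero_iff (by omega) |>.1 h1
  have : CharP F 2 := CharTwo.of_one_ne_zero_of_two_eq_zero one_ne_zero h20
  set H := M.map φ.toMonoidHom with hH
  have ψ₀ : M ≃* H := φ.subgroupMap M
  have hoddH : Odd (Nat.card H) := by rw [← Nat.card_congr ψ₀.toEquiv]; exact hoddM
  have hfalse : ∀ {Y : Type} [Group Y], Nonempty (H ≃* Y) → Even (Nat.card Y) → False := by
    intro Y _ ⟨ψ⟩ hY
    rw [← Nat.card_congr ψ.toEquiv] at hY
    exact (Nat.not_even_iff_odd.2 hoddH) hY
  rcases Cfsg.Agent.S0799.result (rfl : Fintype.card F = Fintype.card F) 2 H with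
    ⟨k, -, (⟨hcyc, -⟩ | ψ)⟩ | ⟨P, K, hK, ⟨ψ⟩⟩ | ψ | ψ | ψ | ⟨K, _, _, m, -, (ψ | ψ)⟩
  · exact isCyclic_of_surjective ψ₀.symm ψ₀.symm.surjective
  · exact (hfalse ψ (by rw [DihedralGroup.nat_card]; exact even_two_mul k)).elim
  · exfalso
    have HX : ∀ t c : Matrix.ProjectiveSpecialLinearGroup (Fin 2) F, orderOf t = 2 →
        c * t = t * c → c * c = 1 := by
      intro t c ht hct
      have h1 := HG (φ.symm t) (φ.symm c) (by rw [MulEquiv.orderOf_eq]; exact ht)
        (by rw [← map_mul, ← map_mul, hct])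
      rw [← map_mul] at h1
      exact (MulEquiv.map_eq_one_iff φ.symm).1 h1
    have hcP : Nat.card (P : Subgroup (Matrix.ProjectiveSpecialLinearGroup (Fin 2) F)) =
        Nat.card C := by
      rw [← hcardT, Sylow.card_eq_multiplicity, Sylow.card_eq_multiplicity,
        Nat.card_congr φ.toEquiv]
    have hoddK : Odd (Nat.card K) := by rw [← Nat.card_congr ψ.toEquiv]; exact hoddH
    have h1 := key_bound HX (P : Subgroup _) K (by rw [hcP]; exact hevenC.two_dvd) hK hoddK
    rw [hcP, ← Nat.card_congr ψ.toEquiv, ← Nat.card_congr ψ₀.toEquiv, hcard] at h1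
    omega
  · exact (hfalse ψ (by rw [Cfsg.Agent.Lib.Helper41.Dickson.natCard_alt_four]; decide)).elim
  · exact (hfalse ψ (by rw [Cfsg.Agent.Lib.Helper41.Dickson.natCard_perm_four]; decide)).elim
  · exact (hfalse ψ (by rw [Cfsg.Agent.Lib.Helper41.Dickson.natCard_alt_five]; decide)).elim
  · exact (hfalse ψ (even_of_gcd_mul (Cfsg.Agent.Lib.Helper41.Dickson.natCard_PSL2 K)
      Nat.card_pos)).elim
  · exact (hfalse ψ (by
      rw [Cfsg.Agent.Lib.Helper41.Dickson.natCard_PGL2]; exact even_mul_sq_sub_one _)).elim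

end Cfsg.Agent.Lib.Helper91.Bend
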